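import Groth.Agent.Sga3A.MTTorsion
import Groth.Agent.Sga3A.MTConst
import Groth.Agent.Sga3A.MTFamily
import Groth.Agent.Sga3A.FibRes
import Mathlib.LinearAlgebra.DirectSum.Finsupp

/-!
Density of torsion with coefficients: if `B` is of multiplicative type and of finite type over `R` and
`Q` is an `R`-module, an element of `Q ⊗ B` which dies in `Q ⊗ B / (torsion ideal n)` for all `n > 0`
is zero.
-/

set_option autoImplicit false

open TensorProduct SGA3b Coalgebra Bialgebra
open Groth.Agent.Sga3A.BCIso Groth.Agent.Sga3A.GLBasic Groth.Agent.Sga3A.MTFamily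
open Groth.Agent.Sga3A.MTBasis Groth.Agent.Sga3A.MTTorsion

namespace K6.TorsCoef

universe u

theorem eq_zero_of_mapDomain {N : Type*} [AddCommGroup N] {M : Type*} [CommGroup M] [Group.FG M]
    (z : M →₀ N)
    (h : ∀ n : ℕ, 0 < n → Finsupp.mapDomain (QuotientGroup.mk' (powMonoidHom n : M →* M).range) z = 0) :
    z = 0 := by
  obtain ⟨l, hl, hinj⟩ := Groth.Agent.Sga3A.FibRes.exists_injOn z.support
  have h1 := h l hl
  refine Finsupp.mapDomain_injOn (M := N) (z.support : Set M) hinj (x₁ := z) (x₂ := 0) ?_ ?_ ?_
  · exact Set.Subset.refl (z.support : Set M)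
  · change ((0 : M →₀ N).support : Set M) ⊆ z.support
    rw [Finsupp.support_zero, Finset.coe_empty]
    exact Set.empty_subset _
  · exact h1.trans Finsupp.mapDomain_zero.symm

section

variable {R : Type u} [CommRing R] {A : Type u} [CommRing A] [HopfAlgebra R A]
  {S : Type u} [CommRing S] [Algebra R S] {M : Type*} [CommGroup M] (g : GBasis S (S ⊗[R] A) M)

/-- coordinates in the basis of characters -/
noncomputable def ell : A →ₗ[R] (M →₀ S) :=
  (g.b.repr.toLinearMap.restrictScalars R).comp (TensorProduct.mk R S A 1)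

theorem coeff_toQ (n : ℕ) (x : S ⊗[R] A) : (toQ g n x).coeff =
    Finsupp.mapDomain (QuotientGroup.mk' (powMonoidHom n : M →* M).range) (g.b.repr x) := by
  have h1 : ((MonoidAlgebra.coeffLinearEquiv (R := S) : _ ≃ₗ[S] _).toLinearMap.comp (toQ g n).toLinearMap) =
      (Finsupp.lmapDomain S S (QuotientGroup.mk' (powMonoidHom n : M →* M).range)).comp
        g.b.repr.toLinearMap := by
    apply g.b.ext
    intro m
    simp [Finsupp.mapDomain_single]
  exact DFunLike.congr_fun h1 x

/-- the coordinates modulo `n` factor over the quotient by the torsion ideal -/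
noncomputable def ellq (n : ℕ) : (A ⧸ torsionIdeal R A n) →ₗ[R]
    (Groth.Agent.Sga3A.MTTorsion.Q M n →₀ S) :=
  ((MonoidAlgebra.coeffLinearEquiv (R := R)).toLinearMap).comp (quotToQ g n).toLinearMap

theorem ellq_mk (n : ℕ) : (ellq g n).comp (Ideal.Quotient.mkₐ R (torsionIdeal R A n)).toLinearMap =
    (Finsupp.lmapDomain S R (QuotientGroup.mk' (powMonoidHom n : M →* M).range)).comp (ell g) := by
  ext a : 1
  exact coeff_toQ g n (1 ⊗ₜ a)

variable (N : Type u) [AddCommGroup N] [Module R N]

omit [CommGroup M] in
theorem finsuppRight_mapDomain [DecidableEq M] {P : Type*} [DecidableEq P] (f : M → P) (z : N ⊗[R] (M →₀ S)) :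
    TensorProduct.finsuppRight R R N S P ((Finsupp.lmapDomain S R f).lTensor N z) =
      Finsupp.mapDomain f (TensorProduct.finsuppRight R R N S M z) := by
  induction z using TensorProduct.induction_on with
  | zero => simp
  | add a b ha hb => rw [map_add, map_add, ha, hb, map_add, Finsupp.mapDomain_add]
  | tmul n s =>
    induction s using Finsupp.induction_linear with
    | zero => simp
    | add s t hs ht =>
      rw [TensorProduct.tmul_add, map_add, map_add, hs, ht, map_add, Finsupp.mapDomain_add]
    | single m s =>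
      rw [LinearMap.lTensor_tmul, Finsupp.lmapDomain_apply, Finsupp.mapDomain_single,
        TensorProduct.finsuppRight_tmul_single, TensorProduct.finsuppRight_tmul_single,
        Finsupp.mapDomain_single]

include g in
theorem one_tmul_eq_zero [Group.FG M] (y : N ⊗[R] A)
    (h : ∀ n : ℕ, 0 < n → (Ideal.Quotient.mkₐ R (torsionIdeal R A n)).toLinearMap.lTensor N y = 0) :
    (1 : S) ⊗ₜ[R] y = 0 := by
  classical
  have h1 : (ell g).lTensor N y = 0 := by
    apply (TensorProduct.finsuppRight R R N S M).injective
    rw [map_zero]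
    apply eq_zero_of_mapDomain
    intro n hn
    rw [← finsuppRight_mapDomain, ← LinearMap.lTensor_comp_apply, ← ellq_mk,
      LinearMap.lTensor_comp_apply, h n hn, map_zero, map_zero]
  have h2 : (TensorProduct.mk R S A 1).lTensor N y = 0 := by
    have h3 : (g.b.repr.toLinearMap.restrictScalars R).lTensor N ((TensorProduct.mk R S A 1).lTensor N y) = 0 := by
      rw [← LinearMap.lTensor_comp_apply]
      exact h1
    have h4 := congrArg ((g.b.repr.symm.toLinearMap.restrictScalars R).lTensor N) h3
    rw [← LinearMap.lTensor_comp_apply, map_zero] at h4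
    have h5 : (g.b.repr.symm.toLinearMap.restrictScalars R).comp (g.b.repr.toLinearMap.restrictScalars R) =
        LinearMap.id := by
      refine LinearMap.ext fun x => ?_
      exact g.b.repr.symm_apply_apply x
    rw [h5, LinearMap.lTensor_id] at h4
    exact h4
  apply (TensorProduct.leftComm R S N A).injective
  rw [map_zero, ← h2]
  generalize y = w
  induction w using TensorProduct.induction_on with
  | zero => simp
  | add a b ha hb => rw [TensorProduct.tmul_add, map_add, map_add, ha, hb]
  | tmul n a => simp

end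

/-- density of torsion with coefficients -/
theorem eq_zero {R : Type u} [CommRing R] {A : Type u} [CommRing A] [HopfAlgebra R A]
    [Algebra.FiniteType R A] (hA : IsMultType R A) (N : Type u) [AddCommGroup N] [Module R N]
    (y : N ⊗[R] A)
    (h : ∀ n : ℕ, 0 < n → (Ideal.Quotient.mkₐ R (torsionIdeal R A n)).toLinearMap.lTensor N y = 0) :
    y = 0 := by
  obtain ⟨ι, _, S, _, _, hS, _, hd⟩ := exists_family hA
  apply hS
  intro i
  cases subsingleton_or_nontrivial (S i) with
  | inl hs => 
    have h0 : (1 : S i) = 0 := Subsingleton.elim _ _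
    rw [h0, TensorProduct.zero_tmul]
  | inr hs =>
    obtain ⟨M, _, ⟨e⟩⟩ := hd i
    have g := GBasis.ofBialgEquiv e
    have hfg : Group.FG M := Groth.Agent.Sga3A.MTConst.fg_of_gbasis g
    exact one_tmul_eq_zero g N y h

/-- an element of `T ⊗ B` whose images in all `T ⊗ B / (torsion ideal n)` are defined over the base
is defined over the base. -/
theorem exists_eq {R : Type u} [CommRing R] {A : Type u} [CommRing A] [HopfAlgebra R A]
    [Algebra.FiniteType R A] (hA : IsMultType R A) (T : Type u) [CommRing T] [Algebra R T]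
    (x : T ⊗[R] A)
    (h : ∀ n : ℕ, 0 < n → ∃ b : A ⧸ torsionIdeal R A n,
      (Ideal.Quotient.mkₐ R (torsionIdeal R A n)).toLinearMap.lTensor T x = 1 ⊗ₜ b) :
    ∃ a : A, x = 1 ⊗ₜ a := by
  let i : R →ₗ[R] T := Algebra.linearMap R T
  let q : T →ₗ[R] (T ⧸ LinearMap.range i) := (LinearMap.range i).mkQ
  have hq : Function.Surjective q := (LinearMap.range i).mkQ_surjective
  have hex : Function.Exact i q := LinearMap.exact_map_mkQ_range i
  have hex2 : Function.Exact (i.rTensor A) (q.rTensor A) := rTensor_exact A hex hq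
  have hx : q.rTensor A x = 0 := by
    apply eq_zero hA
    intro n hn
    obtain ⟨b, hb⟩ := h n hn
    have h1 : (Ideal.Quotient.mkₐ R (torsionIdeal R A n)).toLinearMap.lTensor (T ⧸ LinearMap.range i)
        (q.rTensor A x) = q.rTensor _ ((Ideal.Quotient.mkₐ R (torsionIdeal R A n)).toLinearMap.lTensor T x) := by
      rw [← LinearMap.comp_apply, ← LinearMap.comp_apply, LinearMap.lTensor_comp_rTensor,
        LinearMap.rTensor_comp_lTensor]
    rw [h1, hb, LinearMap.rTensor_tmul]
    have h2 : q 1 = 0 := by
      have : (1 : T) = i 1 := by simp [i]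
      rw [this]
      exact hex.apply_apply_eq_zero 1
    rw [h2, TensorProduct.zero_tmul]
  obtain ⟨w, hw⟩ := (hex2 x).1 hx
  refine ⟨TensorProduct.lid R A w, ?_⟩
  rw [← hw]
  generalize w = w
  induction w using TensorProduct.induction_on with
  | zero => simp
  | add a b ha hb => rw [map_add, map_add, ha, hb, TensorProduct.tmul_add]
  | tmul r a =>
    rw [LinearMap.rTensor_tmul, TensorProduct.lid_tmul, ← TensorProduct.smul_tmul]
    simp [i, Algebra.algebraMap_eq_smul_one]

end K6.TorsCoef
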