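import Groth.Agent.SGA3b.K202.Conv

/-!
The torsion ideal of a cocommutative Hopf algebra is a Hopf ideal.
-/

set_option autoImplicit false
universe u

open TensorProduct SGA3b Coalgebra Bialgebra WithConv K202.Conv

namespace K6.TorsHopf

variable {R : Type u} [CommRing R] {A : Type u} [CommRing A] [HopfAlgebra R A]

theorem comp_comul_eq {D : Type*} [CommRing D] [Algebra R D] (f g : A →ₐ[R] D) :
    toConv ((Algebra.TensorProduct.lift f g (fun _ _ => .all _ _)).comp (comulAlgHom R A)) =
      toConv f * toConv g := by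
  apply WithConv.ofConv_injective
  ext a
  exact (AlgHom.convMul_apply _ _ a).symm

theorem conv_antipode {D : Type*} [CommRing D] [Algebra R D] (f : A →ₐ[R] D) :
    toConv (f.comp (HopfAlgebra.antipodeAlgHom R A)) * toConv f = 1 := by
  have h := congrArg (post (A := A) f) (AlgHom.antipode_id_cancel (R := R) (A := A))
  rw [map_mul, map_one] at h
  exact h

theorem isHopfIdeal [IsCocomm R A] (n : ℕ) : (torsionIdeal R A n).IsHopfIdeal R := by
  obtain ⟨J, hJ⟩ : ∃ J, J = torsionIdeal R A n := ⟨_, rfl⟩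
  rw [← hJ]
  let mk : A →ₐ[R] A ⧸ J := Ideal.Quotient.mkₐ R J
  have hmk : RingHom.ker mk = J := Ideal.mk_ker
  have hpow : (toConv mk) ^ n = 1 := (torsionIdeal_le_ker_iff mk n).1 (hJ ▸ hmk.ge)
  have hε : J ≤ RingHom.ker (counitAlgHom R A) := by
    rw [hJ, torsionIdeal_le_ker_iff]
    have : toConv (counitAlgHom R A) = 1 := by
      rw [eq_one_iff]
      intro a
      rfl
    rw [this, one_pow]
  have hS : J ≤ RingHom.ker (mk.comp (HopfAlgebra.antipodeAlgHom R A)) := by
    refine hJ.le.trans ?_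
    rw [torsionIdeal_le_ker_iff]
    have h1 := congrArg (fun x : WithConv (A →ₐ[R] A ⧸ J) => x ^ n) (conv_antipode mk)
    simp only [mul_pow, hpow, mul_one, one_pow] at h1
    exact h1
  let i₁ : A →ₐ[R] (A ⧸ J) ⊗[R] (A ⧸ J) := Algebra.TensorProduct.includeLeft.comp mk
  let i₂ : A →ₐ[R] (A ⧸ J) ⊗[R] (A ⧸ J) := Algebra.TensorProduct.includeRight.comp mk
  have h1 : (toConv i₁) ^ n = 1 := by
    have := map_pow (post (A := A) (Algebra.TensorProduct.includeLeft : (A ⧸ J) →ₐ[R] (A ⧸ J) ⊗[R] (A ⧸ J)))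
      (toConv mk) n
    rw [hpow, map_one] at this
    exact this.symm
  have h2 : (toConv i₂) ^ n = 1 := by
    have := map_pow (post (A := A) (Algebra.TensorProduct.includeRight : (A ⧸ J) →ₐ[R] (A ⧸ J) ⊗[R] (A ⧸ J)))
      (toConv mk) n
    rw [hpow, map_one] at this
    exact this.symm
  have hΔ : J ≤ RingHom.ker ((Algebra.TensorProduct.lift i₁ i₂ (fun _ _ => .all _ _)).comp
      (comulAlgHom R A)) := by
    refine hJ.le.trans ?_
    rw [torsionIdeal_le_ker_iff, comp_comul_eq]
    refine (mul_pow (toConv i₁) (toConv i₂) n).trans ?_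
    rw [h1, h2]
    exact one_mul (1 : WithConv (A →ₐ[R] (A ⧸ J) ⊗[R] (A ⧸ J)))
  have hlift : ∀ z : A ⊗[R] A, Algebra.TensorProduct.lift i₁ i₂ (fun _ _ => .all _ _) z =
      TensorProduct.map (J.restrictScalars R).mkQ (J.restrictScalars R).mkQ z := by
    intro z
    have h3 : (Algebra.TensorProduct.lift i₁ i₂ (fun _ _ => .all _ _)).toLinearMap =
        TensorProduct.map (J.restrictScalars R).mkQ (J.restrictScalars R).mkQ := by
      apply TensorProduct.ext'
      intro a b
      have h4 : Algebra.TensorProduct.lift i₁ i₂ (fun _ _ => .all _ _) (a ⊗ₜ b) = mk a ⊗ₜ[R] mk b := by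
        rw [Algebra.TensorProduct.lift_tmul]
        change (mk a ⊗ₜ (1 : A ⧸ J)) * ((1 : A ⧸ J) ⊗ₜ mk b) = _
        rw [Algebra.TensorProduct.tmul_mul_tmul, mul_one, one_mul]
      exact h4
    exact LinearMap.congr_fun h3 z
  have hco : (J.restrictScalars R).IsCoideal := by
    constructor
    · intro x hx
      exact hε hx
    · intro x hx
      rw [← hlift]
      exact hΔ hx
  refine { toIsCoideal := hco, antipode_mem := ?_ }
  intro x hx
  have := hS hx
  rw [RingHom.mem_ker] at this
  exact Ideal.Quotient.eq_zero_iff_mem.1 this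

end K6.TorsHopf
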