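import Groth.Agent.SGA3b.K6.FinCase
import Groth.Agent.SGA3b.K6.TorsCoef
import Groth.Agent.SGA3b.K6.TorsHopf
import Groth.Agent.S5242

/-!
Homomorphisms from a group of multiplicative type to a group of finite type with closed fibre of
multiplicative type, over a local extension `Y` (with the same residue field) of a noetherian henselian
local ring `A`, are defined over `A`.
-/

set_option autoImplicit false

open TensorProduct SGA3b Coalgebra Bialgebra IsLocalRing
open Groth.Agent.Sga3A.BCIso Groth.Agent.Sga3A.GLBasic Groth.Agent.Sga3A.NilDescent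
open K201.HomBC

namespace K6.HensDesc

universe u

variable {A : Type u} [CommRing A] [IsNoetherianRing A] [HenselianLocalRing A]
  {Y : Type u} [CommRing Y] [Algebra A Y] [IsLocalRing Y]
  {B : Type u} [CommRing B] [HopfAlgebra A B]
  {C : Type u} [CommRing C] [HopfAlgebra A C]

theorem exists_eq
    (hYs : ∀ y : Y, ∃ a : A, y - algebraMap A Y a ∈ maximalIdeal Y)
    (hYm : maximalIdeal A ≤ (maximalIdeal Y).comap (algebraMap A Y))
    [Algebra.FiniteType A B] (hB : IsMultType A B) [Algebra.FiniteType A C]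
    (hC : IsMultType (ResidueField A) (ResidueField A ⊗[A] C))
    (ψ : Y ⊗[A] C →ₐc[Y] Y ⊗[A] B) (c : C) : ∃ b : B, ψ (1 ⊗ₜ c) = 1 ⊗ₜ b := by
  apply K6.TorsCoef.exists_eq hB Y
  intro n hn
  have hco : IsCocomm A B := K201.MTBasics.isCocomm hB
  have hJ : (torsionIdeal A B n).IsHopfIdeal A := K6.TorsHopf.isHopfIdeal n
  obtain ⟨hE, hfin⟩ := Groth.Agent.S5242.main A B ‹_› hB n hn (torsionIdeal A B n) rfl
  have hflat : Module.Flat A (B ⧸ torsionIdeal A B n) := K201.MTBasics.flat hE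
  have hfree : Module.Free A (B ⧸ torsionIdeal A B n) := Module.free_of_flat_of_isLocalRing
  let π : B →ₐc[A] B ⧸ torsionIdeal A B n := Bialgebra.Quotient.mkBialgHom _
  obtain ⟨b, hb⟩ := K6.FinCase.exists_descent_of_free hYs hYm hE hC ((mapBialg Y π).comp ψ) c
  refine ⟨b, ?_⟩
  rw [← hb]
  change _ = mapBialg Y π (ψ (1 ⊗ₜ c))
  generalize ψ (1 ⊗ₜ c) = w
  induction w using TensorProduct.induction_on with
  | zero => simp only [map_zero]
  | tmul y b =>
    rw [LinearMap.lTensor_tmul, mapBialg_tmul]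
    rfl
  | add x y hx hy => rw [map_add, map_add, hx, hy]

theorem exists_hom (hinj : Function.Injective (algebraMap A Y))
    (hYs : ∀ y : Y, ∃ a : A, y - algebraMap A Y a ∈ maximalIdeal Y)
    (hYm : maximalIdeal A ≤ (maximalIdeal Y).comap (algebraMap A Y))
    [Algebra.FiniteType A B] (hB : IsMultType A B) [Algebra.FiniteType A C]
    (hC : IsMultType (ResidueField A) (ResidueField A ⊗[A] C))
    (ψ : Y ⊗[A] C →ₐc[Y] Y ⊗[A] B) : ∃ φ : C →ₐc[A] B, ∀ c, ψ (1 ⊗ₜ c) = 1 ⊗ₜ φ c := by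
  have hflat : Module.Flat A B := K201.MTBasics.flat hB
  choose f hf using exists_eq hYs hYm hB hC ψ
  obtain ⟨φ, hφ⟩ := K6.HomInj.exists_of_inj hinj ψ f (fun c => (hf c).symm)
  exact ⟨φ, fun c => by rw [hφ, hf]⟩

omit [IsNoetherianRing A] [HenselianLocalRing A] [IsLocalRing Y] in
theorem hom_uniq (hinj : Function.Injective (algebraMap A Y)) (hB : IsMultType A B)
    (φ ψ : C →ₐc[A] B) (h : ∀ c, (1 : Y) ⊗ₜ[A] φ c = (1 : Y) ⊗ₜ[A] ψ c) : φ = ψ := by
  have hflat : Module.Flat A B := K201.MTBasics.flat hB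
  ext c
  exact K6.HomInj.injective_one_tmul Y B hinj (h c)

end K6.HensDesc
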