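import Groth.Agent.SGA3b.K6.LiftHensRing
import Groth.Agent.SGA3b.K6.HensDesc
import Groth.Agent.SGA3b.K201.OpenIsotriv
import Groth.Agent.SGA3b.K202.NoethDesc
import Groth.Agent.S5250
import Groth.Agent.S2974
import Groth.Agent.S0543
import Mathlib.RingTheory.AdicCompletion.LocalRing
import Mathlib.RingTheory.AdicCompletion.Noetherian

/-!
Over a noetherian henselian local ring `A`, an affine group of finite type, flat at the points of the
closed fibre, whose closed fibre is of multiplicative type, contains an open and closed isotrivial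
subgroup with the same closed fibre.
-/

set_option autoImplicit false

open TensorProduct SGA3b Coalgebra Bialgebra IsLocalRing
open Groth.Agent.Sga3A.BCIso Groth.Agent.Sga3A.GLBasic Groth.Agent.Sga3A.NilDescent
open Groth.Agent.Sga3A.GLHom
open K201.HomBC

namespace K6.HensClopen

universe u

section cpl

variable (A : Type u) [CommRing A] [IsNoetherianRing A] [IsLocalRing A]

theorem algebraMap_injective : Function.Injective (algebraMap A (AdicCompletion (maximalIdeal A) A)) := by
  intro a b hab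
  exact AdicCompletion.of_injective (IsLocalRing.maximalIdeal A) A hab

theorem exists_sub_mem (y : AdicCompletion (maximalIdeal A) A) : ∃ a : A,
    y - algebraMap A (AdicCompletion (maximalIdeal A) A) a ∈
      maximalIdeal (AdicCompletion (maximalIdeal A) A) := by
  obtain ⟨x, hx⟩ := (AdicCompletion.residueField_map_bijective (R := A)).2
    (IsLocalRing.residue _ y)
  obtain ⟨a, rfl⟩ := IsLocalRing.residue_surjective x
  refine ⟨a, ?_⟩
  rw [IsLocalRing.ResidueField.map_residue] at hx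
  rw [← IsLocalRing.residue_eq_zero_iff, map_sub, ← hx, sub_self]

theorem le_comap : maximalIdeal A ≤ (maximalIdeal (AdicCompletion (maximalIdeal A) A)).comap
    (algebraMap A (AdicCompletion (maximalIdeal A) A)) := by
  rw [AdicCompletion.maximalIdeal_eq_map]
  exact Ideal.le_comap_map

theorem eq_comap : maximalIdeal A = (maximalIdeal (AdicCompletion (maximalIdeal A) A)).comap
    (algebraMap A (AdicCompletion (maximalIdeal A) A)) :=
  (maximalIdeal.isMaximal A).eq_of_le (Ideal.comap_ne_top _ (Ideal.IsPrime.ne_top inferInstance))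
    (le_comap A)

end cpl

variable {A : Type u} [CommRing A] [IsNoetherianRing A] [HenselianLocalRing A]
  {C : Type u} [CommRing C] [HopfAlgebra A C]

theorem exists_quot [Algebra.FiniteType A C]
    (hfl : ∀ (q : Ideal C) [q.IsPrime], Ideal.map (algebraMap A C) (maximalIdeal A) ≤ q →
      Module.Flat A (Localization.AtPrime q))
    (hs : IsMultType (ResidueField A) (ResidueField A ⊗[A] C)) :
    ∃ (B : Type u) (_ : CommRing B) (_ : HopfAlgebra A B) (φ : C →ₐc[A] B),
      IsIsotrivial A B ∧ Function.Surjective φ ∧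
        ∀ c, φ c = 0 → c ∈ ((maximalIdeal A) • ⊤ : Submodule A C) := by
  let k := ResidueField A
  have hftk : Algebra.FiniteType k (k ⊗[A] C) := inferInstance
  have hiso : IsIsotrivial k (k ⊗[A] C) := Groth.Agent.S2974.result k (k ⊗[A] C) hftk hs
  obtain ⟨B, _, _, hB, hBft, ⟨e₀⟩⟩ := K6.LiftHensRing.exists_lift_local A (k ⊗[A] C) hftk hiso
  have hBm : IsMultType A B := K201.Isotriv.isMultType_of_isIsotrivial hB
  have hBfl : Module.Flat A B := K201.MTBasics.flat hBm
  -- the completion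
  let Y := AdicCompletion (maximalIdeal A) A
  have hYN : IsNoetherianRing Y := Groth.Agent.S0543.result A (maximalIdeal A)
  let I : Ideal Y := maximalIdeal Y
  let K := Y ⧸ I
  let r : k →ₐ[A] K := Ideal.Quotient.liftₐ (maximalIdeal A) (Algebra.ofId A K) (by
    intro a ha
    change algebraMap A K a = 0
    rw [IsScalarTower.algebraMap_apply A Y K]
    exact Ideal.Quotient.eq_zero_iff_mem.2 (le_comap A ha))
  let _ : Algebra k K := r.toRingHom.toAlgebra
  have _ : IsScalarTower A k K := IsScalarTower.of_algebraMap_eq fun a => (r.commutes a).symm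
  have hKnt : Nontrivial K := Ideal.Quotient.nontrivial_iff.2 (Ideal.IsPrime.ne_top inferInstance)
  have hkK : Function.Injective (algebraMap k K) := (algebraMap k K).injective
  have hflY : ∀ (q : Ideal (Y ⊗[A] C)) [q.IsPrime], Ideal.map (algebraMap Y (Y ⊗[A] C)) I ≤ q →
      Module.Flat Y (Localization.AtPrime q) := by
    intro q _ hq
    have hq' : q.LiesOver I := K202.NoethDesc.liesOver_of_map_le q hq
    exact K202.NoethDesc.flat_baseChange C Y (maximalIdeal A) (fun q _ hq => hfl q (by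
      rw [Ideal.map_le_iff_le_comap]
      exact hq.over.le)) I (eq_comap A) q hq'
  have h0 : IsIsotrivial K (K ⊗[Y] (Y ⊗[A] C)) := by
    have h1 : IsIsotrivial K (K ⊗[k] (k ⊗[A] C)) := K201.QIBC.isIsotrivial_baseChange K hiso
    exact K201.QIBC.isIsotrivial_congr
      ((cancelBialg A k K C).trans (cancelBialg A Y K C).symm) h1
  have hBY : IsIsotrivial Y (Y ⊗[A] B) := K201.QIBC.isIsotrivial_baseChange Y hB
  let c1 : K ⊗[Y] (Y ⊗[A] C) →ₐc[K] K ⊗[A] C := cancelBialg A Y K C
  let c2 : K ⊗[A] C →ₐc[K] K ⊗[k] (k ⊗[A] C) := (cancelBialg A k K C).symm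
  let c3 : K ⊗[k] (k ⊗[A] C) →ₐc[K] K ⊗[k] (k ⊗[A] B) :=
    mapBialg K (e₀.symm : k ⊗[A] C →ₐc[k] k ⊗[A] B)
  let c4 : K ⊗[k] (k ⊗[A] B) →ₐc[K] K ⊗[A] B := cancelBialg A k K B
  let c5 : K ⊗[A] B →ₐc[K] K ⊗[Y] (Y ⊗[A] B) := (cancelBialg A Y K B).symm
  let φ₀ : K ⊗[Y] (Y ⊗[A] C) →ₐc[K] K ⊗[Y] (Y ⊗[A] B) :=
    (c5.comp (c4.comp c3)).comp (c2.comp c1)
  obtain ⟨φY, hφY⟩ := (Groth.Agent.S5250.result Y I (Y ⊗[A] B) hBY (Y ⊗[A] C) hflY
    (K201.ConnFib.isQuasiIsotrivial_of_isIsotrivial h0)).2 φ₀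
  obtain ⟨φ, hφ⟩ := K6.HensDesc.exists_hom (algebraMap_injective A) (exists_sub_mem A) (le_comap A)
    hBm hs φY
  -- comparison with `e₀`
  have hφe : ∀ c : C, e₀.symm ((1 : k) ⊗ₜ[A] c) = (1 : k) ⊗ₜ[A] φ c := by
    intro c
    apply K6.HomInj.injective_one_tmul K (k ⊗[A] B) hkK
    beta_reduce
    apply EquivLike.injective (cancelBialg A k K B)
    apply EquivLike.injective (cancelBialg A Y K B).symm
    have h1 := hφY (1 ⊗ₜ c)
    rw [hφ] at h1
    have h2 : φ₀ ((1 : K) ⊗ₜ[Y] ((1 : Y) ⊗ₜ[A] c)) = (cancelBialg A Y K B).symm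
        (cancelBialg A k K B ((1 : K) ⊗ₜ[k] e₀.symm ((1 : k) ⊗ₜ[A] c))) := by
      change (cancelBialg A Y K B).symm (cancelBialg A k K B (mapBialg K
        (e₀.symm : k ⊗[A] C →ₐc[k] k ⊗[A] B) ((cancelBialg A k K C).symm (cancelBialg A Y K C
          ((1 : K) ⊗ₜ[Y] ((1 : Y) ⊗ₜ[A] c)))))) = _
      rw [cancelBialg_tmul, map_one, mul_one, cancelBialg_symm_tmul, mapBialg_tmul]
      rfl
    rw [← h2, h1]
    apply EquivLike.injective (cancelBialg A Y K B)
    rw [BialgEquiv.apply_symm_apply, cancelBialg_tmul, cancelBialg_tmul, map_one, map_one]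
  have hI : maximalIdeal A ≤ Ideal.jacobson ⊥ := IsLocalRing.maximalIdeal_le_jacobson ⊥
  refine ⟨B, _, _, φ, hB, ?_, ?_⟩
  · obtain ⟨S, _, _, het, hfin, hff, M, _, ⟨e⟩⟩ := hB
    apply K201.ConnFib.surjective_of_mod hI e
    intro b
    obtain ⟨c, hc⟩ := exists_one_tmul (maximalIdeal A) (e₀ ((1 : k) ⊗ₜ[A] b))
    refine ⟨c, ?_⟩
    rw [← one_tmul_eq_iff]
    refine Eq.trans ?_ (hφe c)
    have hc' : (1 : k) ⊗ₜ[A] c = e₀ ((1 : k) ⊗ₜ[A] b) := hc
    rw [hc']
    exact (e₀.symm_apply_apply _).symm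
  · intro c hc
    rw [← one_tmul_eq_zero_iff]
    have h3 : e₀.symm ((1 : k) ⊗ₜ[A] c) = e₀.symm 0 := by
      rw [hφe, hc, TensorProduct.tmul_zero, map_zero]
    exact EquivLike.injective e₀.symm h3

/-- the analogue of S5285 over a noetherian henselian local ring -/
theorem exists_clopen [Algebra.FiniteType A C]
    (hfl : ∀ (q : Ideal C) [q.IsPrime], Ideal.map (algebraMap A C) (maximalIdeal A) ≤ q →
      Module.Flat A (Localization.AtPrime q))
    (hs : IsMultType (ResidueField A) (ResidueField A ⊗[A] C)) :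
    ∃ e : C, IsIdempotentElem e ∧ e ∈ Ideal.map (algebraMap A C) (maximalIdeal A) ∧
      ∃ _ : (Ideal.span {e}).IsHopfIdeal A, IsIsotrivial A (C ⧸ Ideal.span {e}) := by
  obtain ⟨B, _, _, φ, hB, hs, hmod⟩ := exists_quot hfl hs
  have hBfl : Module.Flat A B := K201.MTBasics.flat (K201.Isotriv.isMultType_of_isIsotrivial hB)
  have hI : maximalIdeal A ≤ Ideal.jacobson ⊥ := IsLocalRing.maximalIdeal_le_jacobson ⊥
  have : IsNoetherianRing C := Algebra.FiniteType.isNoetherianRing A C
  obtain ⟨e, he, hN⟩ := K201.OpenIsotriv.exists_idem_of_mod hI φ hs (IsNoetherian.noetherian _) hmod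
  have heN : φ e = 0 := by
    have : e ∈ RingHom.ker φ := by rw [hN]; exact Submodule.mem_span_singleton_self e
    exact this
  have hH : (Ideal.span {e}).IsHopfIdeal A := by
    have := K201.OpenIsotriv.isHopfIdeal_ker_of_surjective φ hs
    rwa [hN] at this
  refine ⟨e, he, ?_, hH, ?_⟩
  · have h1 := hmod e heN
    rwa [Ideal.smul_top_eq_map] at h1
  · obtain ⟨E, -⟩ := K201.OpenIsotriv.exists_quotEquiv φ hs (Ideal.span {e}) (fun a => by rw [← hN]; rfl)
    exact K201.QIBC.isIsotrivial_congr E.symm hB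

end K6.HensClopen
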