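import Groth.Agent.SGA3b.K6.GoodDesc
import Groth.Agent.SGA3b.K6.HensClopen
import Groth.Agent.Vancyc.H694.CommonEt
import Groth.Agent.S0511

/-!
Étale neighbourhoods with a clopen isotrivial subgroup: the affine case, in Hopf form.
-/

set_option autoImplicit false

open TensorProduct SGA3b Coalgebra Bialgebra IsLocalRing
open Groth.Agent.Sga3A.BCIso Groth.Agent.Sga3A.GLBasic
open K201.HomBC K6.IdemHopf K6.GoodIdem

namespace K6.EtGood

universe u

theorem mapL_eq_zero_of_mem {T : Type u} [CommRing T] {S K : Type u} [CommRing S] [Algebra T S] [CommRing K]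
    [Algebra T K] (X : Type u) [CommRing X] [Bialgebra T X] (g : S →ₐ[T] K) (I : Ideal S)
    (hI : ∀ x ∈ I, g x = 0) (z : S ⊗[T] X) (hz : z ∈ Ideal.map (algebraMap S (S ⊗[T] X)) I) :
    mapL X g z = 0 := by
  have h1 : Ideal.map (algebraMap S (S ⊗[T] X)) I ≤ RingHom.ker (mapL X g).toRingHom := by
    rw [Ideal.map_le_iff_le_comap]
    intro x hx
    rw [Ideal.mem_comap, RingHom.mem_ker]
    change mapL X g (x ⊗ₜ 1) = 0
    change g x ⊗ₜ[T] (1 : X) = 0
    rw [hI x hx, TensorProduct.zero_tmul]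
  exact h1 hz

theorem exists_etale_good_noeth {R₀ : Type u} [CommRing R₀] [IsNoetherianRing R₀] (X : Type u) [CommRing X]
    [HopfAlgebra R₀ X] [Algebra.FinitePresentation R₀ X] (p : Ideal R₀) [p.IsPrime]
    (hfl : ∀ (q : Ideal X) [q.IsPrime], q.LiesOver p → Module.Flat R₀ (Localization.AtPrime q))
    (hs : IsMultType p.ResidueField (p.ResidueField ⊗[R₀] X)) :
    ∃ (E : Type u) (_ : CommRing E) (_ : Algebra R₀ E) (_ : Algebra.Etale R₀ E)
      (χ : E →ₐ[R₀] p.ResidueField) (e : E ⊗[R₀] X), Good E e ∧ mapL X χ e = 0 := by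
  obtain ⟨S, _, _, _, _, _, _, hhens, hlaz, hres⟩ :=
    Groth.Agent.Vancyc.H694.CommonEt.exists_hull_localization p
  have hH : HenselianLocalRing S := hhens.henselian
  have hNloc : IsNoetherianRing (Localization.AtPrime p) :=
    IsLocalization.isNoetherianRing p.primeCompl _ inferInstance
  have hN : IsNoetherianRing S := (Groth.Agent.S0511.result (Localization.AtPrime p) S).1 hNloc
  -- residue fields
  let ρ : p.ResidueField →+* ResidueField S := ResidueField.map (algebraMap (Localization.AtPrime p) S)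
  have hρ : ∀ x, ρ (residue (Localization.AtPrime p) x) = residue S (algebraMap _ S x) := fun x =>
    ResidueField.map_residue _ x
  let ρa : p.ResidueField →ₐ[R₀] ResidueField S :=
    { ρ with
      commutes' := fun r => by
        change ρ (residue _ (algebraMap R₀ (Localization.AtPrime p) r)) = residue S (algebraMap R₀ S r)
        rw [hρ, ← IsScalarTower.algebraMap_apply] }
  have hρs : Function.Surjective ρa := by
    intro y
    obtain ⟨x, hx⟩ := hres y
    exact ⟨residue _ x, (hρ x).trans hx⟩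
  have hρi : Function.Injective ρa := ρa.toRingHom.injective
  let ρe : p.ResidueField ≃ₐ[R₀] ResidueField S := AlgEquiv.ofBijective ρa ⟨hρi, hρs⟩
  let res : S →ₐ[R₀] ResidueField S := IsScalarTower.toAlgHom R₀ S (ResidueField S)
  have hp : p = (maximalIdeal S).comap (algebraMap R₀ S) := by
    rw [IsScalarTower.algebraMap_eq R₀ (Localization.AtPrime p) S, ← Ideal.comap_comap,
      ((local_hom_TFAE (algebraMap (Localization.AtPrime p) S)).out 0 4 rfl rfl).mp inferInstance]
    exact (Localization.AtPrime.under_maximalIdeal (I := p)).symm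
  have hflS : ∀ (q : Ideal (S ⊗[R₀] X)) [q.IsPrime],
      Ideal.map (algebraMap S (S ⊗[R₀] X)) (maximalIdeal S) ≤ q → Module.Flat S (Localization.AtPrime q) :=
    fun q _ hq => K202.NoethDesc.flat_baseChange X S p hfl (maximalIdeal S) hp q
      (K202.NoethDesc.liesOver_of_map_le q hq)
  have hsS : IsMultType (ResidueField S) (ResidueField S ⊗[S] (S ⊗[R₀] X)) :=
    K201.QIBC.isMultType_congr (cancelBialg R₀ S (ResidueField S) X).symm
      (K6.FinCase.isMultType_of_residue ρa hs)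
  obtain ⟨eS, he, hem, hH, hi⟩ := K6.HensClopen.exists_clopen hflS hsS
  obtain ⟨K, _, _, φ, y, hKft, hy, hK⟩ := K6.GoodDesc.exists_good X eS ⟨he, hH, hi⟩
  have hKfp : Algebra.FinitePresentation R₀ K := (Algebra.FinitePresentation.of_finiteType).1 hKft
  obtain ⟨E, _, _, hE, ψ, χ, hψ⟩ := hlaz K φ
  refine ⟨E, inferInstance, inferInstance, hE, (ρe.symm.toAlgHom.comp res).comp χ, mapL X ψ y,
    hK.of_algHom ψ, ?_⟩
  rw [mapL_comp, AlgHom.comp_assoc, hψ, ← mapL_comp, hy]
  apply mapL_eq_zero_of_mem X _ (maximalIdeal S) _ eS hem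
  intro x hx
  rw [AlgHom.comp_apply]
  have : res x = 0 := (residue_eq_zero_iff x).2 hx
  rw [this, map_zero]

/-- the general case: base ring arbitrary -/
theorem exists_etale_good {R : Type u} [CommRing R] (C : Type u) [CommRing C]
    [HopfAlgebra R C] [Algebra.FinitePresentation R C] (p : Ideal R) [p.IsPrime]
    (hfl : ∀ (q : Ideal C) [q.IsPrime], q.LiesOver p → Module.Flat R (Localization.AtPrime q))
    (hs : IsMultType p.ResidueField (p.ResidueField ⊗[R] C)) :
    ∃ (E : Type u) (_ : CommRing E) (_ : Algebra R E) (_ : Algebra.Etale R E)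
      (χ : E →ₐ[R] p.ResidueField) (e : E ⊗[R] C), Good E e ∧ mapL C χ e = 0 := by
  obtain ⟨R₀, _, _, X, _, _, p₀, _, hR₀, hinj, hX, hp₀, ⟨c⟩, hfl₀, hs₀⟩ :=
    K202.NoethDesc.exists_model C p hfl hs
  have hN : IsNoetherianRing R₀ := Algebra.FiniteType.isNoetherianRing ℤ R₀
  obtain ⟨E₀, _, _, hE₀, χ₀, e₀, hg, hz⟩ := exists_etale_good_noeth X p₀ hfl₀ hs₀
  let E := R ⊗[R₀] E₀
  let κ := p.ResidueField
  have _ : IsScalarTower R₀ R κ := inferInstance
  let m : p₀.ResidueField →ₐ[R₀] κ :=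
    { Ideal.ResidueField.map p₀ p (algebraMap R₀ R) hp₀ with
      commutes' := fun r => Ideal.ResidueField.map_algebraMap p₀ p (algebraMap R₀ R) hp₀ r }
  let χ : E →ₐ[R] κ := Algebra.TensorProduct.lift (Algebra.ofId R κ) (m.comp χ₀) (fun _ _ => .all _ _)
  let inr : E₀ →ₐ[R₀] E := Algebra.TensorProduct.includeRight
  let e₁ : E ⊗[R₀] X := mapL X inr e₀
  have hg₁ : Good E e₁ := hg.of_algHom inr
  let c1 : E ⊗[R] (R ⊗[R₀] X) ≃ₐc[E] E ⊗[R₀] X := cancelBialg R₀ R E X
  let c2 : E ⊗[R] (R ⊗[R₀] X) ≃ₐc[E] E ⊗[R] C := congrBialg E c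
  refine ⟨E, inferInstance, inferInstance, inferInstance, χ, c2 (c1.symm e₁), (hg₁.congr c1.symm).congr c2, ?_⟩
  -- vanishing
  have h1 : ∀ z : E ⊗[R₀] X, mapL C χ (c2 (c1.symm z)) =
      congrBialg κ c ((cancelBialg R₀ R κ X).symm (mapL X (χ.restrictScalars R₀) z)) := by
    intro z
    induction z using TensorProduct.induction_on with
    | zero => simp only [map_zero]
    | tmul s x =>
      have h2 : c1.symm (s ⊗ₜ x) = s ⊗ₜ (1 ⊗ₜ x) := cancelBialg_symm_tmul _ _ _ _ s x
      have h3 : c2 (s ⊗ₜ ((1 : R) ⊗ₜ[R₀] x)) = s ⊗ₜ c (1 ⊗ₜ x) := rfl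
      have h4 : mapL X (χ.restrictScalars R₀) (s ⊗ₜ x) = χ s ⊗ₜ x := rfl
      have h5 : (cancelBialg R₀ R κ X).symm (χ s ⊗ₜ x) = χ s ⊗ₜ (1 ⊗ₜ x) := cancelBialg_symm_tmul _ _ _ _ _ x
      rw [h2, h3, h4, h5]
      rfl
    | add x y hx hy => simp only [map_add, hx, hy]
  rw [h1]
  have h2 : mapL X (χ.restrictScalars R₀) e₁ = 0 := by
    have h3 : (χ.restrictScalars R₀).comp inr = m.comp χ₀ := by
      ext x
      change χ (1 ⊗ₜ x) = m (χ₀ x)
      rw [Algebra.TensorProduct.lift_tmul, map_one, one_mul]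
      rfl
    rw [mapL_comp, h3, ← mapL_comp, hz, map_zero]
  rw [h2, map_zero, map_zero]

end K6.EtGood
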