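import Groth.Agent.Hensel.LocalSplit
import Groth.Agent.S0499
import Mathlib.RingTheory.ZariskisMainTheorem
import Mathlib.RingTheory.QuasiFinite.Weakly

/-!
A finite type algebra `W` over a noetherian henselian local ring `A`, without non trivial idempotents,
which is unramified with trivial residue extension at one prime over the closed point, is a quotient
of `A`.
-/

set_option autoImplicit false

open IsLocalRing

namespace K6.HensAlg

universe u

/-- finite connected algebras over a henselian local ring are local -/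
theorem isLocalRing_of_finite_of_idem (A : Type u) [CommRing A] [HenselianLocalRing A]
    (W : Type u) [CommRing W] [Nontrivial W] [Algebra A W] [Module.Finite A W]
    (hid : ∀ e : W, IsIdempotentElem e → e = 0 ∨ e = 1) : IsLocalRing W := by
  obtain ⟨ι, _, D, _, hD, ⟨e⟩⟩ := Groth.Agent.S0499.result A W
  classical
  have hne : Nonempty ι := by
    by_contra h
    rw [not_nonempty_iff] at h
    have : Subsingleton (∀ i, D i) := inferInstance
    exact not_subsingleton W (e.toEquiv.subsingleton)
  obtain ⟨i⟩ := hne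
  have h1 : IsIdempotentElem (e.symm (Pi.single i 1)) := by
    change e.symm _ * e.symm _ = e.symm _
    rw [← map_mul, ← Pi.single_mul, one_mul]
  have hi : (Pi.single i 1 : ∀ i, D i) ≠ 0 := by
    intro h
    have := congrFun h i
    rw [Pi.single_eq_same] at this
    exact one_ne_zero this
  rcases hid _ h1 with h | h
  · exfalso
    apply hi
    rw [map_eq_zero_iff _ e.symm.injective] at h
    exact h
  · have h2 : (Pi.single i 1 : ∀ i, D i) = 1 := by
      apply e.symm.injective
      rw [h, map_one]
    have hsub : ∀ j, j = i := by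
      intro j
      by_contra hj
      have := congrFun h2 j
      rw [Pi.single_eq_of_ne hj] at this
      exact zero_ne_one this
    let _ : Unique ι := ⟨⟨i⟩, hsub⟩
    have := hD default
    exact ((e.trans (RingEquiv.piUnique D)).symm).isLocalRing

section

variable {A : Type u} [CommRing A] [IsNoetherianRing A] [HenselianLocalRing A]
  {W : Type u} [CommRing W] [Algebra A W]

omit [IsNoetherianRing A] in
theorem comap_eq (w : Ideal W) [w.IsPrime] (hw : maximalIdeal A ≤ w.comap (algebraMap A W)) :
    w.comap (algebraMap A W) = maximalIdeal A :=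
  ((maximalIdeal.isMaximal A).eq_of_le (Ideal.comap_ne_top _ (Ideal.IsPrime.ne_top ‹_›)) hw).symm

omit [IsNoetherianRing A] in
theorem exists_sub_mem_loc (w : Ideal W) [w.IsPrime] (hw : maximalIdeal A ≤ w.comap (algebraMap A W))
    (hs : ∀ x : W, ∃ a : A, x - algebraMap A W a ∈ w) (x : Localization.AtPrime w) :
    ∃ a : A, x - algebraMap A (Localization.AtPrime w) a ∈ maximalIdeal (Localization.AtPrime w) := by
  obtain ⟨⟨y, s⟩, hy⟩ := IsLocalization.surj w.primeCompl x
  obtain ⟨a, ha⟩ := hs y
  obtain ⟨b, hb⟩ := hs s.1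
  have hbu : IsUnit b := by
    rw [← IsLocalRing.notMem_maximalIdeal]
    intro h
    apply s.2
    have h1 := w.add_mem hb (hw h)
    rwa [sub_add_cancel] at h1
  obtain ⟨b, rfl⟩ := hbu
  have hmem : ∀ z ∈ w, algebraMap W (Localization.AtPrime w) z ∈ maximalIdeal (Localization.AtPrime w) := by
    intro z hz
    rw [← Localization.AtPrime.map_eq_maximalIdeal]
    exact Ideal.mem_map_of_mem _ hz
  refine ⟨(b⁻¹ : Aˣ).1 * a, ?_⟩
  change x * algebraMap W (Localization.AtPrime w) s.1 = algebraMap W (Localization.AtPrime w) y at hy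
  let L := Localization.AtPrime w
  have hAL : ∀ r : A, algebraMap A L r = algebraMap W L (algebraMap A W r) :=
    fun r => IsScalarTower.algebraMap_apply A W L r
  have hb1 : algebraMap A L (b⁻¹ : Aˣ).1 * algebraMap A L b.1 = 1 := by
    rw [← map_mul, Units.inv_mul, map_one]
  have h1 : x - algebraMap A L ((b⁻¹ : Aˣ).1 * a) = algebraMap A L (b⁻¹ : Aˣ).1 *
      (algebraMap W L (y - algebraMap A W a) - x * algebraMap W L (s.1 - algebraMap A W b.1)) := by
    rw [map_sub, map_sub, ← hAL, ← hAL, mul_sub x, hy, map_mul]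
    have : x = algebraMap A L (b⁻¹ : Aˣ).1 * algebraMap A L b.1 * x := by rw [hb1, one_mul]
    conv_lhs => rw [this]
    ring
  change x - algebraMap A L ((b⁻¹ : Aˣ).1 * a) ∈ _
  rw [h1]
  exact Ideal.mul_mem_left _ _ (Ideal.sub_mem _ (hmem _ ha) (Ideal.mul_mem_left _ _ (hmem _ hb)))

theorem weaklyQuasiFiniteAt [Algebra.FiniteType A W] (w : Ideal W) [w.IsPrime]
    (hw : maximalIdeal A ≤ w.comap (algebraMap A W))
    (hs : ∀ x : W, ∃ a : A, x - algebraMap A W a ∈ w)
    (hsq : w ≤ w ^ 2 ⊔ (maximalIdeal A).map (algebraMap A W)) : Algebra.WeaklyQuasiFiniteAt A w := by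
  rw [Algebra.weaklyQuasiFiniteAt_iff]
  have hu : w.under A = maximalIdeal A := comap_eq w hw
  set L := Localization.AtPrime w with hL
  have : IsNoetherianRing W := Algebra.FiniteType.isNoetherianRing A W
  have : IsNoetherianRing L := IsLocalization.isNoetherianRing w.primeCompl L inferInstance
  have h1 : maximalIdeal L ≤ (maximalIdeal A).map (algebraMap A L) := by
    apply Submodule.le_of_le_smul_of_le_jacobson_bot (I := maximalIdeal L)
      (IsNoetherian.noetherian _) (IsLocalRing.maximalIdeal_le_jacobson ⊥)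
    have h2 := Ideal.map_mono (f := algebraMap W L) hsq
    rw [Ideal.map_sup, Ideal.map_pow, Localization.AtPrime.map_eq_maximalIdeal, Ideal.map_map,
      ← IsScalarTower.algebraMap_eq, sup_comm, pow_two] at h2
    exact h2
  rw [hu]
  have h2 : Function.Surjective (algebraMap A (L ⧸ (maximalIdeal A).map (algebraMap A L))) := by
    intro x
    obtain ⟨x, rfl⟩ := Ideal.Quotient.mk_surjective x
    obtain ⟨a, ha⟩ := exists_sub_mem_loc w hw hs x
    refine ⟨a, ?_⟩
    change Ideal.Quotient.mk _ (algebraMap A L a) = _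
    rw [eq_comm, Ideal.Quotient.mk_eq_mk_iff_sub_mem]
    exact h1 ha
  have h3 : Module.Finite A (L ⧸ (maximalIdeal A).map (algebraMap A L)) :=
    Module.Finite.of_surjective (Algebra.linearMap A _) h2
  infer_instance

theorem surjective_of_idem [Algebra.FiniteType A W]
    (hid : ∀ e : W, IsIdempotentElem e → e = 0 ∨ e = 1) (w : Ideal W) [w.IsPrime]
    (hw : maximalIdeal A ≤ w.comap (algebraMap A W))
    (hs : ∀ x : W, ∃ a : A, x - algebraMap A W a ∈ w)
    (hsq : w ≤ w ^ 2 ⊔ (maximalIdeal A).map (algebraMap A W)) :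
    Function.Surjective (algebraMap A W) := by
  have hqf : Algebra.QuasiFiniteAt A w := by
    have := weaklyQuasiFiniteAt w hw hs hsq
    exact Algebra.QuasiFiniteAt.of_weaklyQuasiFiniteAt w
  have hN : IsNoetherianRing W := Algebra.FiniteType.isNoetherianRing A W
  have hnt : Nontrivial W := ⟨0, 1, fun h => (Ideal.IsPrime.ne_top ‹w.IsPrime›)
    ((Ideal.eq_top_iff_one w).2 (h ▸ w.zero_mem))⟩
  obtain ⟨e, he, hf, H⟩ := Groth.Agent.Hensel.LocalSplit.finiteType_split A W
  have hfin : Module.Finite A W := by
    rcases hid e he with rfl | rfl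
    · exfalso
      let E : (W ⧸ Ideal.span ({0} : Set W)) ≃ₐ[A] W :=
        (Ideal.quotientEquivAlgOfEq A (by simp)).trans (AlgEquiv.quotientBot A W)
      have h2 := Algebra.QuasiFiniteAt.comap_algEquiv (R := A) w E
      refine H (w.comap E.toRingHom) ?_ h2
      constructor
      rw [Ideal.under_def, Ideal.comap_comap]
      have : E.toRingHom.comp (algebraMap A (W ⧸ Ideal.span ({0} : Set W))) = algebraMap A W := by
        ext r
        exact E.commutes r
      rw [this, comap_eq w hw]
    · let E : (W ⧸ Ideal.span ({1 - 1} : Set W)) ≃ₐ[A] W :=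
        (Ideal.quotientEquivAlgOfEq A (by simp)).trans (AlgEquiv.quotientBot A W)
      exact Module.Finite.equiv E.toLinearEquiv
  have hloc : IsLocalRing W := isLocalRing_of_finite_of_idem A W hid
  have hmax : w.IsMaximal := by
    have : (w.comap (algebraMap A W)).IsMaximal := by
      rw [comap_eq w hw]; exact maximalIdeal.isMaximal A
    exact Ideal.isMaximal_of_isIntegral_of_isMaximal_comap w this
  have hwm : w = maximalIdeal W := eq_maximalIdeal hmax
  have h1 : w ≤ (maximalIdeal A).map (algebraMap A W) := by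
    apply Submodule.le_of_le_smul_of_le_jacobson_bot (I := maximalIdeal W)
      (IsNoetherian.noetherian _) (IsLocalRing.maximalIdeal_le_jacobson ⊥)
    rw [sup_comm, pow_two] at hsq
    rw [← hwm]
    exact hsq
  have h2 : (⊤ : Submodule A W) ≤ LinearMap.range (Algebra.linearMap A W) := by
    apply Submodule.le_of_le_smul_of_le_jacobson_bot (I := maximalIdeal A)
      (Module.Finite.fg_top) (IsLocalRing.maximalIdeal_le_jacobson ⊥)
    intro x _
    obtain ⟨a, ha⟩ := hs x
    rw [← sub_add_cancel x (algebraMap A W a)]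
    refine Submodule.add_mem _ (Submodule.mem_sup_right ?_) (Submodule.mem_sup_left ⟨a, rfl⟩)
    rw [Ideal.smul_top_eq_map]
    exact h1 ha
  intro x
  obtain ⟨a, ha⟩ := h2 (Submodule.mem_top (x := x))
  exact ⟨a, ha⟩

end

end K6.HensAlg
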