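import Groth.Agent.SGA3b.K6.HomSub
import Groth.Agent.SGA3b.K6.HensAlg
import Groth.Agent.SGA3b.K201.NilHom
import Groth.Agent.SGA3b.K201.QIBC
import Groth.Agent.SGA3b.K201.MTBasics
import Mathlib.RingTheory.TensorProduct.Free

/-!
The finite case: a homomorphism over `Y` (local, with the residue field of `A`) from a finite group of
multiplicative type to a group of finite type whose closed fibre is of multiplicative type is defined
over the henselian ring `A`.
-/

set_option autoImplicit false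

open TensorProduct SGA3b Coalgebra Bialgebra IsLocalRing
open Groth.Agent.Sga3A.BCIso Groth.Agent.Sga3A.GLBasic Groth.Agent.Sga3A.NilDescent
open K201.HomBC

namespace K6.FinCase

universe u

theorem eq_zero_or_one {Y : Type*} [CommRing Y] [IsLocalRing Y] (e : Y) (he : IsIdempotentElem e) :
    e = 0 ∨ e = 1 := by
  rcases IsLocalRing.isUnit_or_isUnit_one_sub_self e with h | h
  · right
    have : e * e = e * 1 := by rw [mul_one]; exact he
    exact h.mul_left_cancel this
  · left
    have : (1 - e) * e = (1 - e) * 0 := by rw [mul_zero, sub_mul, one_mul, he.eq, sub_self]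
    exact h.mul_left_cancel this

section

variable {A : Type u} [CommRing A] {C E : Type u} [CommRing C] [HopfAlgebra A C] [CommRing E]
  [HopfAlgebra A E] {W R T : Type u} [CommRing W] [CommRing R] [CommRing T] [Algebra A W] [Algebra A R]
  [Algebra A T]

/-- rigidity -/
theorem bcHom_eq (π σ : W →ₐ[A] R) (q : R →ₐ[A] T) (hq : Function.Surjective q)
    (hn : ∀ x, q x = 0 → IsNilpotent x) (hqq : q.comp π = q.comp σ)
    (hE : IsMultType R (R ⊗[A] E)) (hC : IsMultType R (R ⊗[A] C))
    (ψ : W ⊗[A] C →ₐc[W] W ⊗[A] E) : bcHom π ψ = bcHom σ ψ := by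
  let _ := q.toRingHom.toAlgebra
  have : IsScalarTower A R T := IsScalarTower.of_algebraMap_eq fun r => (q.commutes r).symm
  apply K201.NilHom.hom_uniq T hE hC hq hn
  intro x
  apply (EquivLike.injective (cancelBialg A R T E))
  have h1 : ∀ z, cancelBialg A R T E ((1 : T) ⊗ₜ[R] z) = mapL E q z := cancel_one_tmul q
  rw [h1, h1, ← bcHom_map, ← bcHom_map, bcHom_comp, bcHom_comp, hqq]

/-- multiplicative type over `R` from the residue field -/
theorem isMultType_of_residue {k : Type u} [CommRing k] [Algebra A k] (f : k →ₐ[A] R)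
    (h : IsMultType k (k ⊗[A] C)) : IsMultType R (R ⊗[A] C) := by
  let _ := f.toRingHom.toAlgebra
  have : IsScalarTower A k R := IsScalarTower.of_algebraMap_eq fun r => (f.commutes r).symm
  exact K201.QIBC.isMultType_congr (cancelBialg A k R C) (isMultType_baseChange R h)

omit [HopfAlgebra A E] in
theorem repr_mapL [Bialgebra A E] {J : Type*} (b : Module.Basis J A E) (g : W →ₐ[A] R) (x : W ⊗[A] E) (j : J) :
    (Algebra.TensorProduct.basis R b).repr (mapL E g x) j =
      g ((Algebra.TensorProduct.basis W b).repr x j) := by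
  induction x using TensorProduct.induction_on with
  | zero => simp
  | tmul w e => simp [mapL, Algebra.TensorProduct.basis_repr_tmul]
  | add x y hx hy => simp only [map_add, Finsupp.add_apply, hx, hy]

end

section

variable {A : Type u} [CommRing A] [IsNoetherianRing A] [HenselianLocalRing A]
  {Y : Type u} [CommRing Y] [Algebra A Y] [IsLocalRing Y]
  {E : Type u} [CommRing E] [HopfAlgebra A E]
  {C : Type u} [CommRing C] [HopfAlgebra A C]

theorem exists_descent_of_free
    (hYs : ∀ y : Y, ∃ a : A, y - algebraMap A Y a ∈ maximalIdeal Y)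
    (hYm : maximalIdeal A ≤ (maximalIdeal Y).comap (algebraMap A Y))
    [Module.Finite A E] [Module.Free A E] (hE : IsMultType A E) [Algebra.FiniteType A C]
    (hC : IsMultType (ResidueField A) (ResidueField A ⊗[A] C))
    (ψ : Y ⊗[A] C →ₐc[Y] Y ⊗[A] E) (c : C) : ∃ b : E, ψ (1 ⊗ₜ c) = 1 ⊗ₜ b := by
  obtain ⟨G, hG⟩ := (‹Algebra.FiniteType A C›).out
  let J := Module.Free.ChooseBasisIndex A E
  let b : Module.Basis J A E := Module.Free.chooseBasis A E
  let t : G × J → Y := fun p => (Algebra.TensorProduct.basis Y b).repr (ψ (1 ⊗ₜ p.1.1)) p.2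
  let W : Subalgebra A Y := Algebra.adjoin A (Set.range t)
  have hWft : Algebra.FiniteType A W := by
    rw [← Subalgebra.fg_iff_finiteType]
    exact ⟨(Set.finite_range t).toFinset, by rw [Set.Finite.coe_toFinset]⟩
  have ht : ∀ p, t p ∈ W := fun p => Algebra.subset_adjoin ⟨p, rfl⟩
  have hval : Function.Injective W.val := Subtype.val_injective
  -- the map over `W`
  have h1 : ∀ c : C, ∃ b' : W ⊗[A] E, mapL E W.val b' = ψ (1 ⊗ₜ c) := by
    apply K6.HomSub.exists_preimage_of_adjoin W.val ψ (G : Set C) hG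
    intro c hc
    refine ⟨∑ j : J, (⟨t (⟨c, hc⟩, j), ht _⟩ : W) ⊗ₜ[A] b j, ?_⟩
    rw [map_sum]
    have h2 := (Algebra.TensorProduct.basis Y b).sum_repr (ψ (1 ⊗ₜ c))
    rw [← h2]
    refine Finset.sum_congr rfl fun j _ => ?_
    rw [Algebra.TensorProduct.basis_apply, TensorProduct.smul_tmul', smul_eq_mul, mul_one]
    simp [mapL, t]
  obtain ⟨ψW, hψW⟩ := K6.HomSub.exists_descent W.val ψ hval h1
  -- the ideals
  let w : Ideal W := (maximalIdeal Y).comap W.val
  have hwm : maximalIdeal A ≤ w.comap (algebraMap A W) := by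
    intro a ha
    exact hYm ha
  have hws : ∀ x : W, ∃ a : A, x - algebraMap A W a ∈ w := by
    intro x
    obtain ⟨a, ha⟩ := hYs x.1
    exact ⟨a, ha⟩
  have hwp : w.IsPrime := Ideal.IsPrime.comap _
  let I : Ideal W := w ^ 2 ⊔ (maximalIdeal A).map (algebraMap A W)
  have hIw : I ≤ w := sup_le (Ideal.pow_le_self two_ne_zero) (Ideal.map_le_iff_le_comap.2 hwm)
  let π : W →ₐ[A] W ⧸ I := Ideal.Quotient.mkₐ A I
  let τ : W →ₐ[A] W ⧸ w := Ideal.Quotient.mkₐ A w
  let q : (W ⧸ I) →ₐ[A] (W ⧸ w) := Ideal.Quotient.factorₐ A hIw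
  have hqπ : q.comp π = τ := by
    ext x
    rfl
  -- the residue field
  let r : ResidueField A →ₐ[A] W ⧸ w := Ideal.Quotient.liftₐ (maximalIdeal A) (Algebra.ofId A (W ⧸ w)) (by
    intro a ha
    change algebraMap A (W ⧸ w) a = 0
    rw [IsScalarTower.algebraMap_apply A W (W ⧸ w)]
    exact Ideal.Quotient.eq_zero_iff_mem.2 (hwm ha))
  have hAsurj : Function.Surjective (algebraMap A (W ⧸ w)) := by
    intro x
    obtain ⟨x, rfl⟩ := Ideal.Quotient.mk_surjective x
    obtain ⟨a, ha⟩ := hws x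
    refine ⟨a, ?_⟩
    change Ideal.Quotient.mk w (algebraMap A W a) = _
    rw [eq_comm, Ideal.Quotient.mk_eq_mk_iff_sub_mem]
    exact ha
  have hrsurj : Function.Surjective r := by
    intro x
    obtain ⟨a, rfl⟩ := hAsurj x
    exact ⟨residue A a, rfl⟩
  have hnt : Nontrivial (W ⧸ w) := Ideal.Quotient.nontrivial_iff.2 hwp.ne_top
  have hrinj : Function.Injective r := (r : ResidueField A →+* W ⧸ w).injective
  let e : ResidueField A ≃ₐ[A] W ⧸ w := AlgEquiv.ofBijective r ⟨hrinj, hrsurj⟩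
  let s : ResidueField A →ₐ[A] W ⧸ I := Ideal.Quotient.liftₐ (maximalIdeal A) (Algebra.ofId A (W ⧸ I)) (by
    intro a ha
    change algebraMap A (W ⧸ I) a = 0
    rw [IsScalarTower.algebraMap_apply A W (W ⧸ I)]
    exact Ideal.Quotient.eq_zero_iff_mem.2 (Ideal.mem_sup_right (Ideal.mem_map_of_mem _ ha)))
  let σ : W →ₐ[A] W ⧸ I := (s.comp e.symm.toAlgHom).comp τ
  have hqs : q.comp (s.comp e.symm.toAlgHom) = AlgHom.id A (W ⧸ w) := by
    ext x
    obtain ⟨a, rfl⟩ := hAsurj x
    rw [AlgHom.commutes, AlgHom.commutes]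
  have hqσ : q.comp σ = τ := by
    change q.comp ((s.comp e.symm.toAlgHom).comp τ) = τ
    rw [← AlgHom.comp_assoc, hqs, AlgHom.id_comp]
  have hkey : bcHom π ψW = bcHom σ ψW := by
    apply bcHom_eq π σ q
    · intro x
      obtain ⟨x, rfl⟩ := Ideal.Quotient.mk_surjective x
      exact ⟨Ideal.Quotient.mk I x, rfl⟩
    · intro x hx
      obtain ⟨x, rfl⟩ := Ideal.Quotient.mk_surjective x
      have hx' : x ∈ w := Ideal.Quotient.eq_zero_iff_mem.1 hx
      refine ⟨2, ?_⟩
      rw [← map_pow]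
      exact Ideal.Quotient.eq_zero_iff_mem.2 (Ideal.mem_sup_left (Ideal.pow_mem_pow hx' 2))
    · rw [hqπ, hqσ]
    · exact isMultType_baseChange _ hE
    · exact isMultType_of_residue s hC
  have hπσ : π = σ := by
    apply AlgHom.adjoin_ext
    rintro _ ⟨⟨c, j⟩, rfl⟩
    have h2 := congrArg (fun F : (W ⧸ I) ⊗[A] C →ₐc[W ⧸ I] (W ⧸ I) ⊗[A] E =>
      (Algebra.TensorProduct.basis (W ⧸ I) b).repr (F (1 ⊗ₜ c.1)) j) hkey
    simp only [bcHom_one_tmul] at h2
    rw [repr_mapL, repr_mapL] at h2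
    have h3 : (Algebra.TensorProduct.basis W b).repr (ψW (1 ⊗ₜ c.1)) j = ⟨t (c, j), ht _⟩ := by
      apply hval
      rw [← repr_mapL, hψW]
      rfl
    rw [h3] at h2
    exact h2
  have hsq : w ≤ I := by
    intro x hx
    have h2 := DFunLike.congr_fun hπσ x
    have h3 : σ x = 0 := by
      change (s.comp e.symm.toAlgHom) (τ x) = 0
      have : τ x = 0 := Ideal.Quotient.eq_zero_iff_mem.2 hx
      rw [this, map_zero]
    rw [h3] at h2
    exact Ideal.Quotient.eq_zero_iff_mem.1 h2
  have hsurj : Function.Surjective (algebraMap A W) := by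
    apply K6.HensAlg.surjective_of_idem _ w hwm hws hsq
    intro e he
    have he' : IsIdempotentElem (e : Y) := congrArg Subtype.val he
    rcases eq_zero_or_one _ he' with h | h
    · exact Or.inl (Subtype.ext h)
    · exact Or.inr (Subtype.ext h)
  -- conclusion
  have h4 : ∀ z : W ⊗[A] E, ∃ b : E, z = 1 ⊗ₜ b := by
    intro z
    induction z using TensorProduct.induction_on with
    | zero => exact ⟨0, by rw [TensorProduct.tmul_zero]⟩
    | tmul x y =>
      obtain ⟨a, rfl⟩ := hsurj x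
      exact ⟨a • y, by rw [Algebra.algebraMap_eq_smul_one, TensorProduct.smul_tmul]⟩
    | add x y hx hy =>
      obtain ⟨a, rfl⟩ := hx
      obtain ⟨b, rfl⟩ := hy
      exact ⟨a + b, by rw [TensorProduct.tmul_add]⟩
  obtain ⟨b', hb'⟩ := h4 (ψW (1 ⊗ₜ c))
  refine ⟨b', ?_⟩
  rw [← hψW, hb', mapL_one_tmul]

end

end K6.FinCase
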