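import Groth.Agent.SGA3b.K6.GoodIdem

/-!
Descent of idempotents defining isotrivial subgroups along directed unions of subrings.
-/

set_option autoImplicit false

open TensorProduct SGA3b Coalgebra Bialgebra
open Groth.Agent.Sga3A.BCIso Groth.Agent.Sga3A.GLBasic
open K201.HomBC K6.IdemHopf K6.GoodIdem

namespace K6.GoodDesc

universe u v

section vanish

theorem sys_vanish {T : Type u} [CommRing T] {ι : Type v} [Preorder ι] [IsDirected ι (· ≤ ·)]
    {L : Type u} [CommRing L] [Algebra T L] (D : K202.Sys T ι L) (i : ι)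
    {N : Type u} [AddCommGroup N] [Module T N] (z : N) (hz : (1 : L) ⊗ₜ[T] z = 0) :
    ∃ (j : ι), i ≤ j ∧ ∀ (k : ι) (_ : j ≤ k), (1 : D.S k) ⊗ₜ[T] z = 0 := by
  obtain ⟨j, hj, h⟩ := D.exists_eq_zero i ((1 : D.S i) ⊗ₜ[T] z) (by
    change (D.u i 1) ⊗ₜ[T] z = 0
    rw [map_one]
    exact hz)
  refine ⟨j, hj, fun k hk => ?_⟩
  have h1 : (1 : D.S j) ⊗ₜ[T] z = 0 := by
    have h2 : (D.f hj 1) ⊗ₜ[T] z = 0 := h
    rwa [map_one] at h2
  have h3 := congrArg (K202.Sys.rT N (D.f hk)) h1
  have h4 : (D.f hk 1) ⊗ₜ[T] z = 0 := h3.trans (map_zero _)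
  rwa [map_one] at h4

variable {A : Type u} [CommRing A] {ι : Type v} [Preorder ι] [IsDirected ι (· ≤ ·)] [Nonempty ι]
  {B : ι → Subring A} (hmono : Monotone B) (hsup : ⨆ i, B i = ⊤)

include hmono hsup in
theorem exists_one_tmul_eq_zero (i : ι) {N : Type u} [AddCommGroup N] [Module (B i) N] (z : N)
    (hz : (1 : A) ⊗ₜ[B i] z = 0) : ∃ (j : ι), ∀ (k : ι) (_ : j ≤ k) (hik : i ≤ k),
      letI := K202.SubringDesc.algInc hmono hik; (1 : B k) ⊗ₜ[B i] z = 0 := by
  obtain ⟨j, -, h⟩ := sys_vanish (K202.SubringDesc.sys hmono hsup i) ⟨i, le_rfl⟩ z hz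
  exact ⟨j.1, fun k hk hik => h ⟨k, hik⟩ hk⟩

end vanish

section congr

variable {K : Type u} [CommRing K] {Y Y' : Type u} [CommRing Y] [HopfAlgebra K Y] [CommRing Y']
  [HopfAlgebra K Y'] {e : Y}

theorem isHopfIdeal_congr (E : Y ≃ₐc[K] Y') (hH : (Ideal.span {e}).IsHopfIdeal K) :
    (Ideal.span {E e}).IsHopfIdeal K := by
  let q : Y →ₐc[K] Y ⧸ Ideal.span {e} := Bialgebra.Quotient.mkBialgHom (Ideal.span {e})
  let φ : Y' →ₐc[K] Y ⧸ Ideal.span {e} := q.comp (E.symm : Y' →ₐc[K] Y)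
  have hφ : ∀ y, φ y = Ideal.Quotient.mk _ (E.symm y) := fun _ => rfl
  have hs : Function.Surjective φ := by
    intro x
    obtain ⟨y, rfl⟩ := Ideal.Quotient.mk_surjective x
    refine ⟨E y, ?_⟩
    rw [hφ]
    congr 1
    exact E.symm_apply_apply y
  have hker : RingHom.ker φ = Ideal.span {E e} := by
    ext a
    change φ a = 0 ↔ _
    rw [hφ, Ideal.Quotient.eq_zero_iff_mem]
    constructor
    · intro h
      obtain ⟨y, hy⟩ := Ideal.mem_span_singleton'.1 h
      refine Ideal.mem_span_singleton'.2 ⟨E y, ?_⟩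
      rw [← map_mul, hy]
      exact E.apply_symm_apply a
    · intro h
      obtain ⟨y, hy⟩ := Ideal.mem_span_singleton'.1 h
      refine Ideal.mem_span_singleton'.2 ⟨E.symm y, ?_⟩
      rw [← hy, map_mul]
      congr 1
      exact (E.symm_apply_apply e).symm
  have := K201.OpenIsotriv.isHopfIdeal_ker_of_surjective φ hs
  rwa [hker] at this

end congr

section stage

/-- idempotence and the Hopf ideal condition after base change -/
theorem isHopfIdeal_of_vanish {K : Type u} [CommRing K] {Y : Type u} [CommRing Y] [HopfAlgebra K Y] (e : Y)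
    (K' : Type u) [CommRing K'] [Algebra K K']
    (h1 : (1 : K') ⊗ₜ[K] counit (R := K) e = 0)
    (h2 : (1 : K') ⊗ₜ[K] (((1 - e) ⊗ₜ[K] (1 - e)) * comul (R := K) e) = 0)
    (h3 : (1 : K') ⊗ₜ[K] ((1 - e) * HopfAlgebra.antipodeAlgHom K Y e) = 0)
    (h4 : (1 : K') ⊗ₜ[K] (e * e - e) = 0) :
    IsIdempotentElem ((1 : K') ⊗ₜ[K] e) ∧ (Ideal.span {(1 : K') ⊗ₜ[K] e}).IsHopfIdeal K' := by
  have h5 : IsHI K' ((1 : K') ⊗ₜ[K] e) := (isHI_one_tmul_iff K' e).2 ⟨h1, h2, h3⟩
  refine ⟨?_, isHopfIdeal_of_isHI h5⟩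
  change _ * _ = _
  rw [Algebra.TensorProduct.tmul_mul_tmul, one_mul, ← sub_eq_zero, ← TensorProduct.tmul_sub]
  exact h4

/-- the quotient by a Hopf ideal generated by an idempotent is isotrivial after base change iff the
idempotent is good after base change -/
theorem good_iff {K : Type u} [CommRing K] {Y : Type u} [CommRing Y] [HopfAlgebra K Y] {e : Y}
    (he : IsIdempotentElem e) [(Ideal.span {e}).IsHopfIdeal K] (K' : Type u) [CommRing K'] [Algebra K K'] :
    Good K' ((1 : K') ⊗ₜ[K] e) ↔ IsIsotrivial K' (K' ⊗[K] (Y ⧸ Ideal.span {e})) := by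
  obtain ⟨hH', ⟨E⟩⟩ := K201.OpenIsotriv.exists_quot_baseChange (R := K) (C := Y) (e := e) K'
  constructor
  · rintro ⟨_, _, hi⟩
    exact K201.QIBC.isIsotrivial_congr E hi
  · intro hi
    exact ⟨isIdempotentElem_one_tmul K' he, hH', K201.QIBC.isIsotrivial_congr E.symm hi⟩

variable {A : Type u} [CommRing A] {ι : Type v} [Preorder ι] [IsDirected ι (· ≤ ·)] [Nonempty ι]
  {B : ι → Subring A} (hmono : Monotone B) (hsup : ⨆ i, B i = ⊤)

include hmono hsup in
/-- goodness descends to a finite stage -/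
theorem exists_good_ge [Nontrivial A] (i : ι) (Y : Type u) [CommRing Y] [HopfAlgebra (B i) Y]
    [Algebra.FinitePresentation (B i) Y] (e : Y) (h : Good A ((1 : A) ⊗ₜ[B i] e)) :
    ∃ (j : ι) (hij : i ≤ j), letI := K202.SubringDesc.algInc hmono hij;
      Good (B j) ((1 : B j) ⊗ₜ[B i] e) := by
  have h' := h
  obtain ⟨he', hH', hi⟩ := h'
  obtain ⟨z1, z2, z3⟩ := (isHI_one_tmul_iff A e).1 (isHI_of_isHopfIdeal he' hH')
  have z4 : (1 : A) ⊗ₜ[B i] (e * e - e) = 0 := by
    rw [TensorProduct.tmul_sub, sub_eq_zero]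
    have := he'.eq
    rwa [Algebra.TensorProduct.tmul_mul_tmul, one_mul] at this
  obtain ⟨j1, h1⟩ := exists_one_tmul_eq_zero hmono hsup i _ z1
  obtain ⟨j2, h2⟩ := exists_one_tmul_eq_zero hmono hsup i _ z2
  obtain ⟨j3, h3⟩ := exists_one_tmul_eq_zero hmono hsup i _ z3
  obtain ⟨j4, h4⟩ := exists_one_tmul_eq_zero hmono hsup i _ z4
  obtain ⟨k1, a1, a2⟩ := exists_ge_ge j1 j2
  obtain ⟨k2, a3, a4⟩ := exists_ge_ge j3 j4
  obtain ⟨k3, a5, a6⟩ := exists_ge_ge k1 k2
  obtain ⟨g, a7, a8⟩ := exists_ge_ge i k3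
  let _ := K202.SubringDesc.algInc hmono a7
  have _ : IsScalarTower (B i) (B g) A := .of_algebraMap_eq' rfl
  obtain ⟨hGe, hGH⟩ := isHopfIdeal_of_vanish e (B g) (h1 g (a1.trans (a5.trans a8)) a7)
    (h2 g (a2.trans (a5.trans a8)) a7) (h3 g (a3.trans (a6.trans a8)) a7)
    (h4 g (a4.trans (a6.trans a8)) a7)
  have hg : Good A ((1 : A) ⊗ₜ[B g] ((1 : B g) ⊗ₜ[B i] e)) := by
    have h5 := h.congr (cancelBialg (B i) (B g) A Y).symm
    rwa [cancelBialg_symm_tmul] at h5
  have hfp : Algebra.FinitePresentation (B g) ((B g ⊗[B i] Y) ⧸ Ideal.span {(1 : B g) ⊗ₜ[B i] e}) :=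
    Algebra.FinitePresentation.quotient ⟨{(1 : B g) ⊗ₜ[B i] e}, by simp⟩
  obtain ⟨l, hgl, hl⟩ := exists_isIsotrivial_ge hmono hsup g
    ((B g ⊗[B i] Y) ⧸ Ideal.span {(1 : B g) ⊗ₜ[B i] e}) ((good_iff hGe A).1 hg)
  refine ⟨l, a7.trans hgl, ?_⟩
  let _ := K202.SubringDesc.algInc hmono (a7.trans hgl)
  let _ := K202.SubringDesc.algInc hmono hgl
  have _ : IsScalarTower (B i) (B g) (B l) := .of_algebraMap_eq' rfl
  have h6 := ((good_iff hGe (B l)).2 hl).congr (cancelBialg (B i) (B g) (B l) Y)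
  rw [cancelBialg_tmul, map_one, one_mul] at h6
  exact h6

end stage

section main

variable {T : Type u} [CommRing T] {A : Type u} [CommRing A] [Algebra T A]
  {ι : Type v} [Preorder ι] [IsDirected ι (· ≤ ·)] [Nonempty ι]
  {B : ι → Subring A} (hmono : Monotone B) (hsup : ⨆ i, B i = ⊤)
  [∀ i, Algebra T (B i)] [tow : ∀ i, IsScalarTower T (B i) A]

variable (T B) in
/-- the inclusion -/
noncomputable def val (i : ι) : B i →ₐ[T] A := IsScalarTower.toAlgHom T (B i) A

omit [Preorder ι] [IsDirected ι (· ≤ ·)] [Nonempty ι] in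
theorem val_apply (i : ι) (x : B i) : val T B i x = x.1 := rfl

omit [IsDirected ι (· ≤ ·)] [Nonempty ι] in
theorem inc_commutes {i j : ι} (h : i ≤ j) (r : T) :
    Subring.inclusion (hmono h) (algebraMap T (B i) r) = algebraMap T (B j) r := by
  apply Subtype.ext
  have h1 : algebraMap T A r = algebraMap (B i) A (algebraMap T (B i) r) :=
    IsScalarTower.algebraMap_apply T (B i) A r
  have h2 : algebraMap T A r = algebraMap (B j) A (algebraMap T (B j) r) :=
    IsScalarTower.algebraMap_apply T (B j) A r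
  exact h1.symm.trans h2

variable (T) in
/-- the transition maps -/
noncomputable def inc {i j : ι} (h : i ≤ j) : B i →ₐ[T] B j :=
  { Subring.inclusion (hmono h) with commutes' := inc_commutes hmono h }

omit [IsDirected ι (· ≤ ·)] [Nonempty ι] in
theorem inc_apply {i j : ι} (h : i ≤ j) (x : B i) : (inc T hmono h x).1 = x.1 := rfl

omit [IsDirected ι (· ≤ ·)] [Nonempty ι] in
theorem val_inc {i j : ι} (h : i ≤ j) : (val T B j).comp (inc T hmono h) = val T B i := by
  ext x
  rw [AlgHom.comp_apply, val_apply, val_apply, inc_apply]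

variable {X : Type u} [CommRing X] [HopfAlgebra T X]

include hmono hsup in
theorem exists_elt (x : A ⊗[T] X) : ∃ (i : ι) (y : B i ⊗[T] X), mapL X (val T B i) y = x := by
  induction x using TensorProduct.induction_on with
  | zero => exact ⟨Classical.arbitrary ι, 0, map_zero _⟩
  | tmul a b =>
    obtain ⟨i, hi⟩ := K202.SubringDesc.exists_mem hmono hsup a
    refine ⟨i, (⟨a, hi⟩ : B i) ⊗ₜ b, ?_⟩
    change (val T B i (⟨a, hi⟩ : B i)) ⊗ₜ b = _
    rw [val_apply]
  | add x y hx hy =>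
    obtain ⟨i, x', rfl⟩ := hx
    obtain ⟨j, y', rfl⟩ := hy
    obtain ⟨k, h1, h2⟩ := exists_ge_ge i j
    refine ⟨k, mapL X (inc T hmono h1) x' + mapL X (inc T hmono h2) y', ?_⟩
    rw [map_add, mapL_comp, mapL_comp, val_inc, val_inc]

include hmono hsup in
theorem exists_good' [Nontrivial A] [Algebra.FinitePresentation T X] (x : A ⊗[T] X) (hx : Good A x) :
    ∃ (i : ι) (y : B i ⊗[T] X), mapL X (val T B i) y = x ∧ Good (B i) y := by
  obtain ⟨i, e, rfl⟩ := exists_elt hmono hsup x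
  have h1 : (cancelBialg T (B i) A X) ((1 : A) ⊗ₜ[B i] e) = mapL X (val T B i) e :=
    cancel_one_tmul (val T B i) e
  have h2 : Good A ((1 : A) ⊗ₜ[B i] e) := by
    have h3 := hx.congr (cancelBialg T (B i) A X).symm
    rw [← h1] at h3
    have h4 : (cancelBialg T (B i) A X).symm ((cancelBialg T (B i) A X) ((1 : A) ⊗ₜ[B i] e)) =
      (1 : A) ⊗ₜ[B i] e := (cancelBialg T (B i) A X).symm_apply_apply _
    rwa [h4] at h3
  obtain ⟨j, hij, hG⟩ := exists_good_ge hmono hsup i (B i ⊗[T] X) e h2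
  let _ := K202.SubringDesc.algInc hmono hij
  have _ : IsScalarTower T (B i) (B j) := .of_algebraMap_eq fun r => (inc_commutes hmono hij r).symm
  have h5 := hG.congr (cancelBialg T (B i) (B j) X)
  have h6 : cancelBialg T (B i) (B j) X ((1 : B j) ⊗ₜ[B i] e) = mapL X (inc T hmono hij) e :=
    cancel_one_tmul (inc T hmono hij) e
  rw [h6] at h5
  refine ⟨j, mapL X (inc T hmono hij) e, ?_, h5⟩
  rw [mapL_comp, val_inc]

end main

section adjoin

variable {T : Type u} [CommRing T] {A : Type u} [CommRing A] [Algebra T A]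

/-- the algebra structure on the subring underlying a subalgebra -/
@[reducible] noncomputable def algAdj (F : Finset A) : Algebra T (Algebra.adjoin T (F : Set A)).toSubring :=
  ((algebraMap T A).codRestrict (Algebra.adjoin T (F : Set A)).toSubring
    (fun t => (Algebra.adjoin T (F : Set A)).algebraMap_mem t)).toAlgebra

theorem finiteType_of_ringHom {K K' : Type*} [CommRing K] [CommRing K'] [Algebra T K] [Algebra T K']
    (h : Algebra.FiniteType T K) (f : K →+* K') (hf : ∀ t, f (algebraMap T K t) = algebraMap T K' t)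
    (hs : Function.Surjective f) : Algebra.FiniteType T K' :=
  Algebra.FiniteType.of_surjective (f := ({ f with commutes' := hf } : K →ₐ[T] K')) hs

theorem finiteType_adj (F : Finset A) :
    letI := algAdj (T := T) F
    Algebra.FiniteType T (Algebra.adjoin T (F : Set A)).toSubring := by
  have h1 : Algebra.FiniteType T (Algebra.adjoin T (F : Set A)) :=
    (Subalgebra.fg_iff_finiteType _).1 ⟨F, rfl⟩
  let E : (Algebra.adjoin T (F : Set A)) →+* (Algebra.adjoin T (F : Set A)).toSubring :=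
    { toFun := fun x => ⟨x.1, x.2⟩
      map_mul' := fun _ _ => rfl
      map_add' := fun _ _ => rfl
      map_one' := rfl
      map_zero' := rfl }
  exact @finiteType_of_ringHom T _ _ _ _ _ (Algebra.adjoin T (F : Set A)).algebra (algAdj (T := T) F) h1 E
    (fun _ => rfl) (fun x => ⟨⟨x.1, x.2⟩, rfl⟩)

/-- an idempotent defining an isotrivial subgroup descends to a subalgebra of finite type -/
theorem exists_good [Nontrivial A] (X : Type u) [CommRing X] [HopfAlgebra T X]
    [Algebra.FinitePresentation T X] (x : A ⊗[T] X) (hx : Good A x) :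
    ∃ (K : Type u) (_ : CommRing K) (_ : Algebra T K) (φ : K →ₐ[T] A) (y : K ⊗[T] X),
      Algebra.FiniteType T K ∧ mapL X φ y = x ∧ Good K y := by
  classical
  let B : Finset A → Subring A := fun F => (Algebra.adjoin T (F : Set A)).toSubring
  have hmono : Monotone B := fun F G h => Algebra.adjoin_mono (R := T) (Finset.coe_subset.mpr h)
  have hsup : ⨆ F, B F = ⊤ := by
    refine eq_top_iff.mpr fun x _ => ?_
    have h1 : x ∈ B ({x} : Finset A) := Algebra.subset_adjoin (by simp)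
    exact (le_iSup B {x}) h1
  let alg : ∀ F, Algebra T (B F) := fun F => algAdj F
  have tow : ∀ F, IsScalarTower T (B F) A := fun F => .of_algebraMap_eq' rfl
  have hft : ∀ F, Algebra.FiniteType T (B F) := fun F => finiteType_adj F
  obtain ⟨F, y, h1, h2⟩ := exists_good' hmono hsup x hx
  exact ⟨B F, inferInstance, alg F, val T B F, y, hft F, h1, h2⟩

end adjoin

end K6.GoodDesc
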