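import Groth.Agent.SGA3b.K6.IdemHopf
import Groth.Agent.SGA3b.K202.SubringDesc

/-!
Idempotents of a Hopf algebra defining an (open and closed) isotrivial subgroup of multiplicative type;
base change and descent along directed unions of subrings.
-/

set_option autoImplicit false

open TensorProduct SGA3b Coalgebra Bialgebra
open Groth.Agent.Sga3A.BCIso Groth.Agent.Sga3A.GLBasic Groth.Agent.Sga3A.MTBasis
open K201.HomBC K6.IdemHopf

namespace K6.GoodIdem

universe u v

/-- the idempotent `e` defines an isotrivial subgroup -/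
def Good (K : Type u) [CommRing K] {Y : Type u} [CommRing Y] [HopfAlgebra K Y] (e : Y) : Prop :=
  IsIdempotentElem e ∧ ∃ _ : (Ideal.span {e}).IsHopfIdeal K, IsIsotrivial K (Y ⧸ Ideal.span {e})

section

variable {K : Type u} [CommRing K] {Y Y' : Type u} [CommRing Y] [HopfAlgebra K Y] [CommRing Y']
  [HopfAlgebra K Y'] {e : Y}

theorem Good.congr (E : Y ≃ₐc[K] Y') (h : Good K e) : Good K (E e) := by
  obtain ⟨he, hH, hi⟩ := h
  refine ⟨he.map E, ?_⟩
  let q : Y →ₐc[K] Y ⧸ Ideal.span {e} := Bialgebra.Quotient.mkBialgHom (Ideal.span {e})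
  let φ : Y' →ₐc[K] Y ⧸ Ideal.span {e} := q.comp (E.symm : Y' →ₐc[K] Y)
  have hφ : ∀ y, φ y = Ideal.Quotient.mk _ (E.symm y) := fun _ => rfl
  have hs : Function.Surjective φ := by
    intro x
    obtain ⟨y, rfl⟩ := Ideal.Quotient.mk_surjective x
    refine ⟨E y, ?_⟩
    rw [hφ]
    congr 1
    exact E.symm_apply_apply y
  have hk : ∀ a, φ a = 0 ↔ a ∈ Ideal.span {E e} := by
    intro a
    rw [hφ, Ideal.Quotient.eq_zero_iff_mem]
    constructor
    · intro h
      obtain ⟨y, hy⟩ := Ideal.mem_span_singleton'.1 h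
      refine Ideal.mem_span_singleton'.2 ⟨E y, ?_⟩
      rw [← map_mul, hy]
      exact E.apply_symm_apply a
    · intro h
      obtain ⟨y, hy⟩ := Ideal.mem_span_singleton'.1 h
      refine Ideal.mem_span_singleton'.2 ⟨E.symm y, ?_⟩
      rw [← hy, map_mul]
      congr 1
      exact (E.symm_apply_apply e).symm
  have hker : RingHom.ker φ = Ideal.span {E e} := by
    ext a
    exact hk a
  have hH' : (Ideal.span {E e}).IsHopfIdeal K := by
    have := K201.OpenIsotriv.isHopfIdeal_ker_of_surjective φ hs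
    rwa [hker] at this
  obtain ⟨E', -⟩ := K201.OpenIsotriv.exists_quotEquiv φ hs (Ideal.span {E e}) hk
  exact ⟨hH', K201.QIBC.isIsotrivial_congr E'.symm hi⟩

theorem isIdempotentElem_one_tmul (K' : Type u) [CommRing K'] [Algebra K K'] (he : IsIdempotentElem e) :
    IsIdempotentElem ((1 : K') ⊗ₜ[K] e) := by
  change _ * _ = _
  rw [Algebra.TensorProduct.tmul_mul_tmul, one_mul, he.eq]

theorem Good.bc (K' : Type u) [CommRing K'] [Algebra K K'] (h : Good K e) :
    Good K' ((1 : K') ⊗ₜ[K] e) := by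
  obtain ⟨he, hH, hi⟩ := h
  obtain ⟨hH', ⟨E⟩⟩ := K201.OpenIsotriv.exists_quot_baseChange (R := K) (C := Y) (e := e) K'
  exact ⟨isIdempotentElem_one_tmul K' he, hH',
    K201.QIBC.isIsotrivial_congr E.symm (K201.QIBC.isIsotrivial_baseChange K' hi)⟩

end

section

variable {T : Type u} [CommRing T] {X : Type u} [CommRing X] [HopfAlgebra T X]
  {K K' : Type u} [CommRing K] [Algebra T K] [CommRing K'] [Algebra T K']

theorem Good.of_algHom (g : K →ₐ[T] K') {e : K ⊗[T] X} (h : Good K e) : Good K' (mapL X g e) := by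
  let _ := g.toRingHom.toAlgebra
  have : IsScalarTower T K K' := IsScalarTower.of_algebraMap_eq fun r => (g.commutes r).symm
  have h1 := (h.bc K').congr (cancelBialg T K K' X)
  have h2 : cancelBialg T K K' X ((1 : K') ⊗ₜ[K] e) = mapL X g e := cancel_one_tmul g e
  rwa [h2] at h1

end

section union

variable {A : Type u} [CommRing A] {ι : Type v} [Preorder ι] [IsDirected ι (· ≤ ·)] [Nonempty ι]
  {B : ι → Subring A} (hmono : Monotone B) (hsup : ⨆ i, B i = ⊤)

include hmono hsup in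
/-- isotriviality of a given group descends along a directed union of subrings -/
theorem exists_isIsotrivial_ge [Nontrivial A] (i : ι) (X : Type u) [CommRing X] [HopfAlgebra (B i) X]
    [Algebra.FinitePresentation (B i) X] (h : IsIsotrivial A (A ⊗[B i] X)) :
    ∃ (j : ι) (hij : i ≤ j), letI := K202.SubringDesc.algInc hmono hij;
      IsIsotrivial (B j) (B j ⊗[B i] X) := by
  have hfp : Algebra.FiniteType A (A ⊗[B i] X) := inferInstance
  obtain ⟨E, _, _, hEt, hEf, hff, M, _, ⟨eM⟩⟩ := h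
  obtain ⟨i2, hE2⟩ := K202.SubringDesc.exists_etale hmono hsup E
  obtain ⟨k, h1, h2⟩ := exists_ge_ge i i2
  obtain ⟨E', _, _, hEt', ⟨eE⟩⟩ := hE2 k h2
  let _ : Algebra (B i) (B k) := K202.SubringDesc.algInc hmono h1
  have _ : IsScalarTower (B i) (B k) A := .of_algebraMap_eq' rfl
  let X' := B k ⊗[B i] X
  have hntE : Nontrivial E := (FaithfulSMul.algebraMap_injective A E).nontrivial
  have hfg : Group.FG M := Groth.Agent.Sga3A.MTConst.fg_of_gbasis (GBasis.ofBialgEquiv eM)
  have hfin' : Module.Finite A (A ⊗[B k] E') := Module.Finite.equiv eE.symm.toLinearEquiv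
  have hff' : Module.FaithfullyFlat A (A ⊗[B k] E') := Module.FaithfullyFlat.of_linearEquiv _ _ eE.toLinearEquiv
  -- the basis over `A ⊗ E'`
  have g1 : GBasis (A ⊗[B k] E') ((A ⊗[B k] E') ⊗[A] (A ⊗[B i] X)) M :=
    (GBasis.ofBialgEquiv eM : GBasis E (E ⊗[A] (A ⊗[B i] X)) M).bc (eE.symm : E →ₐ[A] A ⊗[B k] E')
  have g2 : GBasis (A ⊗[B k] E') ((A ⊗[B k] E') ⊗[A] (A ⊗[B k] X')) M :=
    g1.map (congrBialg (A ⊗[B k] E') (cancelBialg (B i) (B k) A X).symm)
  have g3 : GBasis (A ⊗[B k] E') ((A ⊗[B k] E') ⊗[B k] X') M :=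
    g2.map (cancelBialg (B k) A (A ⊗[B k] E') X')
  obtain ⟨j, hj⟩ := (K202.SubringDesc.sys hmono hsup k).exists_isIsotrivial hfin' hff' g3
  refine ⟨j.1, h1.trans j.2, ?_⟩
  let _ : Algebra (B i) (B j.1) := K202.SubringDesc.algInc hmono (h1.trans j.2)
  let _ : Algebra (B k) (B j.1) := K202.SubringDesc.algInc hmono j.2
  have _ : IsScalarTower (B i) (B k) (B j.1) := .of_algebraMap_eq' rfl
  exact K201.QIBC.isIsotrivial_congr (cancelBialg (B i) (B k) (B j.1) X) hj

end union

end K6.GoodIdem
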