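import Groth.Agent.SGA3b.K201.HomBC
import Mathlib.RingTheory.Flat.Basic

/-!
Descent of bialgebra maps along an injective base change: if `B` is flat over `R` and `R → S` is
injective, a bialgebra map `S ⊗ C → S ⊗ B` which sends generators of `C` into `B` comes from `R`.
-/

set_option autoImplicit false

open TensorProduct SGA3b Coalgebra Bialgebra
open Groth.Agent.Sga3A.BCIso Groth.Agent.Sga3A.GLBasic
open K201.HomBC

namespace K6.HomInj

universe u

section

variable {R : Type*} [CommRing R]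

theorem injective_one_tmul (S : Type*) [CommRing S] [Algebra R S] (N : Type*) [AddCommGroup N]
    [Module R N] [Module.Flat R N] (hinj : Function.Injective (algebraMap R S)) :
    Function.Injective (fun n : N => (1 : S) ⊗ₜ[R] n) := by
  have h1 : Function.Injective ((Algebra.linearMap R S).rTensor N) :=
    Module.Flat.rTensor_preserves_injective_linearMap _ hinj
  intro x y hxy
  have h2 : ∀ z : N, (Algebra.linearMap R S).rTensor N (1 ⊗ₜ z) = (1 : S) ⊗ₜ[R] z := by
    intro z
    rw [LinearMap.rTensor_tmul, Algebra.linearMap_apply, map_one]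
  have h3 : (1 : R) ⊗ₜ[R] x = (1 : R) ⊗ₜ[R] y := by
    apply h1
    rw [h2, h2]
    exact hxy
  have h4 := congrArg (TensorProduct.lid R N) h3
  simpa using h4

variable {C B : Type*} [CommRing C] [Bialgebra R C] [CommRing B] [Bialgebra R B]
variable {S : Type*} [CommRing S] [Algebra R S]

/-- a map which becomes a bialgebra map after an injective base change is one. -/
theorem exists_of_inj [Module.Flat R B] (hinj : Function.Injective (algebraMap R S))
    (ψ : S ⊗[R] C →ₐc[S] S ⊗[R] B)
    (f : C → B) (hf : ∀ c, (1 : S) ⊗ₜ[R] f c = ψ (1 ⊗ₜ c)) :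
    ∃ φ : C →ₐc[R] B, ∀ c, φ c = f c := by
  have hB := injective_one_tmul S B hinj
  have hBB := injective_one_tmul S (B ⊗[R] B) hinj
  have hmul : ∀ c d, f (c * d) = f c * f d := by
    intro c d
    apply hB
    have h1 : (1 : S) ⊗ₜ[R] (f c * f d) = ((1 : S) ⊗ₜ[R] f c) * ((1 : S) ⊗ₜ[R] f d) := by
      rw [Algebra.TensorProduct.tmul_mul_tmul, one_mul]
    have h2 : (1 : S) ⊗ₜ[R] (c * d) = ((1 : S) ⊗ₜ[R] c) * ((1 : S) ⊗ₜ[R] d) := by
      rw [Algebra.TensorProduct.tmul_mul_tmul, one_mul]
    beta_reduce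
    rw [h1, hf, hf, hf, h2, map_mul]
  have hadd : ∀ c d, f (c + d) = f c + f d := by
    intro c d
    apply hB
    beta_reduce
    rw [TensorProduct.tmul_add, hf, hf, hf, TensorProduct.tmul_add, map_add]
  have hsmul : ∀ (r : R) c, f (r • c) = r • f c := by
    intro r c
    apply hB
    have h1 : (1 : S) ⊗ₜ[R] (r • c) = algebraMap R S r • ((1 : S) ⊗ₜ[R] c) := by
      rw [TensorProduct.tmul_smul, algebraMap_smul]
    have h2 : (1 : S) ⊗ₜ[R] (r • f c) = algebraMap R S r • ((1 : S) ⊗ₜ[R] f c) := by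
      rw [TensorProduct.tmul_smul, algebraMap_smul]
    beta_reduce
    rw [h2, hf, hf, h1, map_smul]
  have hone : f 1 = 1 := by
    apply hB
    beta_reduce
    rw [hf]
    exact map_one ψ
  let F : C →ₐ[R] B := AlgHom.ofLinearMap
    { toFun := f, map_add' := hadd, map_smul' := hsmul } hone hmul
  have hF : ∀ c, F c = f c := fun _ => rfl
  refine ⟨BialgHom.ofAlgHom F ?_ ?_, hF⟩
  · ext c
    change counit (R := R) (F c) = counit (R := R) c
    apply hinj
    have h1 := CoalgHomClass.counit_comp_apply ψ (1 ⊗ₜ[R] c)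
    rw [← hf, counit_one_tmul, counit_one_tmul] at h1
    exact h1
  · ext c
    change (TensorProduct.map F.toLinearMap F.toLinearMap) (comul (R := R) c) = comul (R := R) (F c)
    apply hBB
    beta_reduce
    apply (TensorProduct.AlgebraTensorModule.distribBaseChange R S B B).injective
    rw [← comul_one_tmul (S := S) (F c), hF, hf]
    have h1 : comul (R := S) (ψ (1 ⊗ₜ c)) = TensorProduct.map (ψ : S ⊗[R] C →ₗ[S] S ⊗[R] B)
      (ψ : S ⊗[R] C →ₗ[S] S ⊗[R] B) (comul (R := S) ((1 : S) ⊗ₜ[R] c)) :=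
      (CoalgHomClass.map_comp_comul_apply ψ _).symm
    rw [h1, comul_one_tmul]
    generalize comul (R := R) c = z
    induction z using TensorProduct.induction_on with
    | zero => simp only [TensorProduct.tmul_zero, map_zero]
    | tmul x y =>
      rw [TensorProduct.map_tmul, AlgebraTensorModule.distribBaseChange_tmul,
        AlgebraTensorModule.distribBaseChange_tmul, TensorProduct.map_tmul]
      congr 1
      · exact hf x
      · exact hf y
    | add a b ha hb => simp only [TensorProduct.tmul_add, map_add, ha, hb]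

/-- a bialgebra map over `S` sending generators of `C` into `B` comes from `R`. -/
theorem exists_of_adjoin [Module.Flat R B] (hinj : Function.Injective (algebraMap R S))
    (ψ : S ⊗[R] C →ₐc[S] S ⊗[R] B) (G : Set C) (hG : Algebra.adjoin R G = ⊤)
    (h : ∀ c ∈ G, ∃ b : B, (1 : S) ⊗ₜ[R] b = ψ (1 ⊗ₜ c)) :
    ∃ φ : C →ₐc[R] B, ∀ c, (1 : S) ⊗ₜ[R] φ c = ψ (1 ⊗ₜ c) := by
  have key : ∀ c : C, ∃ b : B, (1 : S) ⊗ₜ[R] b = ψ (1 ⊗ₜ c) := by
    intro c
    have hc : c ∈ Algebra.adjoin R G := hG ▸ Algebra.mem_top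
    induction hc using Algebra.adjoin_induction with
    | mem x hx => exact h x hx
    | algebraMap r =>
      refine ⟨algebraMap R B r, ?_⟩
      have h1 : (1 : S) ⊗ₜ[R] algebraMap R C r = algebraMap S (S ⊗[R] C) (algebraMap R S r) := by
        rw [Algebra.algebraMap_eq_smul_one (R := R) (A := C), ← TensorProduct.smul_tmul,
          ← Algebra.algebraMap_eq_smul_one (R := R) (A := S)]
        rfl
      have h2 : (1 : S) ⊗ₜ[R] algebraMap R B r = algebraMap S (S ⊗[R] B) (algebraMap R S r) := by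
        rw [Algebra.algebraMap_eq_smul_one (R := R) (A := B), ← TensorProduct.smul_tmul,
          ← Algebra.algebraMap_eq_smul_one (R := R) (A := S)]
        rfl
      rw [h1, h2]
      exact (AlgHomClass.commutes ψ _).symm
    | add x y _ _ hx hy =>
      obtain ⟨a, ha⟩ := hx
      obtain ⟨b, hb⟩ := hy
      exact ⟨a + b, by rw [TensorProduct.tmul_add, ha, hb, TensorProduct.tmul_add, map_add]⟩
    | mul x y _ _ hx hy =>
      obtain ⟨a, ha⟩ := hx
      obtain ⟨b, hb⟩ := hy
      refine ⟨a * b, ?_⟩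
      have h1 : (1 : S) ⊗ₜ[R] (a * b) = ((1 : S) ⊗ₜ[R] a) * ((1 : S) ⊗ₜ[R] b) := by
        rw [Algebra.TensorProduct.tmul_mul_tmul, one_mul]
      have h2 : (1 : S) ⊗ₜ[R] (x * y) = ((1 : S) ⊗ₜ[R] x) * ((1 : S) ⊗ₜ[R] y) := by
        rw [Algebra.TensorProduct.tmul_mul_tmul, one_mul]
      rw [h1, h2, ha, hb, map_mul]
  choose f hf using key
  obtain ⟨φ, hφ⟩ := exists_of_inj hinj ψ f hf
  exact ⟨φ, fun c => by rw [hφ, hf]⟩

end

end K6.HomInj
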