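import Groth.Agent.SGA3b.K6.HomInj

/-!
Descent of bialgebra maps `Y ⊗ C → Y ⊗ E` along an injective map of `A`-algebras `W → Y`.
-/

set_option autoImplicit false

open TensorProduct SGA3b Coalgebra Bialgebra
open Groth.Agent.Sga3A.BCIso Groth.Agent.Sga3A.GLBasic
open K201.HomBC

namespace K6.HomSub

section

variable {A : Type*} [CommRing A] {C E : Type*} [CommRing C] [Bialgebra A C] [CommRing E]
  [Bialgebra A E] {W Y : Type*} [CommRing W] [CommRing Y] [Algebra A W] [Algebra A Y]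
  (g : W →ₐ[A] Y) (ψ : Y ⊗[A] C →ₐc[Y] Y ⊗[A] E)

theorem exists_preimage_of_adjoin (G : Set C) (hG : Algebra.adjoin A G = ⊤)
    (h : ∀ c ∈ G, ∃ b : W ⊗[A] E, mapL E g b = ψ (1 ⊗ₜ c)) (c : C) :
    ∃ b : W ⊗[A] E, mapL E g b = ψ (1 ⊗ₜ c) := by
  have hc : c ∈ Algebra.adjoin A G := hG ▸ Algebra.mem_top
  induction hc using Algebra.adjoin_induction with
  | mem x hx => exact h x hx
  | algebraMap r =>
    refine ⟨algebraMap W _ (algebraMap A W r), ?_⟩
    have h1 : (1 : Y) ⊗ₜ[A] algebraMap A C r = algebraMap Y (Y ⊗[A] C) (algebraMap A Y r) := by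
      rw [Algebra.algebraMap_eq_smul_one (R := A) (A := C), ← TensorProduct.smul_tmul,
        ← Algebra.algebraMap_eq_smul_one (R := A)]
      rfl
    have h2 : mapL E g (algebraMap W (W ⊗[A] E) (algebraMap A W r)) =
        algebraMap Y (Y ⊗[A] E) (algebraMap A Y r) := by
      rw [Algebra.algebraMap_eq_smul_one, mapL_smul, map_one, g.commutes,
        ← Algebra.algebraMap_eq_smul_one]
    rw [h1, h2]
    exact (AlgHomClass.commutes ψ _).symm
  | add x y _ _ hx hy =>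
    obtain ⟨a, ha⟩ := hx
    obtain ⟨b, hb⟩ := hy
    exact ⟨a + b, by rw [map_add, ha, hb, TensorProduct.tmul_add, map_add]⟩
  | mul x y _ _ hx hy =>
    obtain ⟨a, ha⟩ := hx
    obtain ⟨b, hb⟩ := hy
    refine ⟨a * b, ?_⟩
    have h2 : (1 : Y) ⊗ₜ[A] (x * y) = ((1 : Y) ⊗ₜ[A] x) * ((1 : Y) ⊗ₜ[A] y) := by
      rw [Algebra.TensorProduct.tmul_mul_tmul, one_mul]
    rw [h2, map_mul, map_mul, ha, hb]

theorem exists_preimage (h : ∀ c : C, ∃ b : W ⊗[A] E, mapL E g b = ψ (1 ⊗ₜ c)) (x : W ⊗[A] C) :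
    ∃ b : W ⊗[A] E, mapL E g b = ψ (mapL C g x) := by
  induction x using TensorProduct.induction_on with
  | zero => exact ⟨0, by simp only [map_zero]⟩
  | tmul w c =>
    obtain ⟨b, hb⟩ := h c
    refine ⟨w • b, ?_⟩
    have h1 : w ⊗ₜ[A] c = w • ((1 : W) ⊗ₜ[A] c) := by
      rw [TensorProduct.smul_tmul', smul_eq_mul, mul_one]
    rw [mapL_smul, hb, h1, mapL_smul, map_smul, mapL_one_tmul]
  | add x y hx hy =>
    obtain ⟨a, ha⟩ := hx
    obtain ⟨b, hb⟩ := hy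
    exact ⟨a + b, by rw [map_add, ha, hb, map_add, map_add]⟩

theorem exists_descent [Module.Flat A E] (hg : Function.Injective g)
    (h : ∀ c : C, ∃ b : W ⊗[A] E, mapL E g b = ψ (1 ⊗ₜ c)) :
    ∃ ψW : W ⊗[A] C →ₐc[W] W ⊗[A] E, ∀ c, mapL E g (ψW (1 ⊗ₜ c)) = ψ (1 ⊗ₜ c) := by
  let _ := g.toRingHom.toAlgebra
  have : IsScalarTower A W Y := IsScalarTower.of_algebraMap_eq fun r => (g.commutes r).symm
  let ψ' : Y ⊗[W] (W ⊗[A] C) →ₐc[Y] Y ⊗[W] (W ⊗[A] E) :=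
    (((cancelBialg A W Y E).symm : _ →ₐc[Y] _).comp ψ).comp (cancelBialg A W Y C : _ →ₐc[Y] _)
  have hψ' : ∀ x, ψ' x = (cancelBialg A W Y E).symm (ψ (cancelBialg A W Y C x)) := fun _ => rfl
  choose f hf using exists_preimage g ψ h
  obtain ⟨φ, hφ⟩ := K6.HomInj.exists_of_inj (R := W) (S := Y) (C := W ⊗[A] C) (B := W ⊗[A] E)
    (hinj := hg) ψ' f (by
      intro x
      rw [hψ']
      apply (EquivLike.injective (cancelBialg A W Y E))
      rw [BialgEquiv.apply_symm_apply]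
      have h1 : cancelBialg A W Y E ((1 : Y) ⊗ₜ[W] f x) = mapL E g (f x) := cancel_one_tmul g _
      have h2 : cancelBialg A W Y C ((1 : Y) ⊗ₜ[W] x) = mapL C g x := cancel_one_tmul g _
      rw [h1, h2, hf])
  refine ⟨φ, fun c => ?_⟩
  rw [hφ, hf, mapL_one_tmul]

end

end K6.HomSub
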