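import Groth.Agent.SGA3b.K201.OpenIsotriv
import Groth.Agent.SGA3b.K201.QIBC
import Groth.Agent.SGA3b.K201.HomBC

/-!
Hopf ideals generated by an idempotent.

`IsHopfIdeal (e)` is the vanishing of three elements; consequences for base change.
-/

set_option autoImplicit false

open TensorProduct SGA3b Coalgebra Bialgebra
open Groth.Agent.Sga3A.BCIso Groth.Agent.Sga3A.GLBasic
open K201.HomBC

namespace K6.IdemHopf

universe u

section

variable {R : Type*} [CommRing R] {Y : Type*} [CommRing Y] [HopfAlgebra R Y]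

/-- the three equations for an idempotent to generate a Hopf ideal -/
structure IsHI (R : Type*) [CommRing R] {Y : Type*} [CommRing Y] [HopfAlgebra R Y] (e : Y) : Prop where
  counit_eq : counit (R := R) e = 0
  comul_eq : ((1 - e) ⊗ₜ[R] (1 - e)) * comul (R := R) e = 0
  antipode_eq : (1 - e) * HopfAlgebra.antipodeAlgHom R Y e = 0

theorem isHopfIdeal_of_isHI {e : Y} (h : IsHI R e) : (Ideal.span {e}).IsHopfIdeal R := by
  set J : Ideal Y := Ideal.span {e} with hJ
  let mk : Y →ₐ[R] Y ⧸ J := Ideal.Quotient.mkₐ R J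
  have hmke : mk (1 - e) = 1 := by
    have : mk e = 0 := Ideal.Quotient.eq_zero_iff_mem.2 (Ideal.mem_span_singleton_self e)
    rw [map_sub, map_one, this, sub_zero]
  let g : Y ⊗[R] Y →ₐ[R] (Y ⧸ J) ⊗[R] (Y ⧸ J) := Algebra.TensorProduct.map mk mk
  have hg : g (comul (R := R) e) = 0 := by
    have h1 := congrArg g h.comul_eq
    rw [map_mul, map_zero] at h1
    have h2 : g ((1 - e) ⊗ₜ[R] (1 - e)) = 1 := by
      rw [Algebra.TensorProduct.map_tmul, hmke]
      rfl
    rwa [h2, one_mul] at h1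
  have hgm : ∀ z, g z = TensorProduct.map (J.restrictScalars R).mkQ (J.restrictScalars R).mkQ z := fun _ => rfl
  have hco : (J.restrictScalars R).IsCoideal := by
    constructor
    · intro x hx
      obtain ⟨y, rfl⟩ := Ideal.mem_span_singleton'.1 (show x ∈ J from hx)
      rw [Bialgebra.counit_mul, h.counit_eq, mul_zero]
    · intro x hx
      obtain ⟨y, rfl⟩ := Ideal.mem_span_singleton'.1 (show x ∈ J from hx)
      rw [← hgm, Bialgebra.comul_mul, map_mul, hg, mul_zero]
      rfl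
  refine { toIsCoideal := hco, antipode_mem := ?_ }
  intro x hx
  obtain ⟨y, rfl⟩ := Ideal.mem_span_singleton'.1 (show x ∈ J from hx)
  change HopfAlgebra.antipodeAlgHom R Y (y * e) ∈ J
  rw [map_mul]
  apply Ideal.mul_mem_left
  have h3 := h.antipode_eq
  rw [sub_mul, one_mul, sub_eq_zero] at h3
  rw [h3]
  exact Ideal.mul_mem_right _ _ (Ideal.mem_span_singleton_self e)

theorem isHI_of_isHopfIdeal {e : Y} (he : IsIdempotentElem e) (h : (Ideal.span {e}).IsHopfIdeal R) :
    IsHI R e := by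
  set J : Ideal Y := Ideal.span {e} with hJ
  have hmem : e ∈ J := Ideal.mem_span_singleton_self e
  have h0 : (1 - e) * e = 0 := by rw [sub_mul, one_mul, he.eq, sub_self]
  refine ⟨Submodule.IsCoideal.counit_eq_zero (I := J.restrictScalars R) hmem, ?_, ?_⟩
  · have h1 := Submodule.IsCoideal.map_mkQ_comul_eq_zero (I := J.restrictScalars R) hmem
    let σ : (Y ⧸ (J.restrictScalars R)) →ₗ[R] Y := (J.restrictScalars R).liftQ
      (LinearMap.mulLeft R (1 - e)) (by
        intro x hx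
        obtain ⟨y, rfl⟩ := Ideal.mem_span_singleton'.1 (show x ∈ J from hx)
        rw [LinearMap.mem_ker, LinearMap.mulLeft_apply, mul_left_comm, h0, mul_zero])
    have h2 : ∀ z : Y ⊗[R] Y, TensorProduct.map σ σ (TensorProduct.map (J.restrictScalars R).mkQ
        (J.restrictScalars R).mkQ z) = ((1 - e) ⊗ₜ[R] (1 - e)) * z := by
      intro z
      induction z using TensorProduct.induction_on with
      | zero => simp only [map_zero, mul_zero]
      | tmul a b =>
        rw [TensorProduct.map_tmul, TensorProduct.map_tmul, Algebra.TensorProduct.tmul_mul_tmul]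
        rfl
      | add a b ha hb => simp only [map_add, mul_add, ha, hb]
    rw [← h2, h1, map_zero]
  · have h1 := Ideal.IsHopfIdeal.antipode_mem (R := R) hmem
    obtain ⟨y, hy⟩ := Ideal.mem_span_singleton'.1 h1
    change (1 - e) * HopfAlgebra.antipode R e = 0
    rw [← hy, mul_left_comm, h0, mul_zero]

end

section bc

variable {R : Type u} [CommRing R] {Y : Type u} [CommRing Y] [HopfAlgebra R Y]
  (S : Type u) [CommRing S] [Algebra R S]

theorem distrib_mul (a b : Y) (z : Y ⊗[R] Y) :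
    (((1 : S) ⊗ₜ[R] a) ⊗ₜ[S] ((1 : S) ⊗ₜ[R] b)) *
      AlgebraTensorModule.distribBaseChange R S Y Y (1 ⊗ₜ z) =
    AlgebraTensorModule.distribBaseChange R S Y Y (1 ⊗ₜ ((a ⊗ₜ[R] b) * z)) := by
  induction z using TensorProduct.induction_on with
  | zero => simp only [TensorProduct.tmul_zero, map_zero, mul_zero]
  | tmul x y =>
    rw [AlgebraTensorModule.distribBaseChange_tmul, Algebra.TensorProduct.tmul_mul_tmul,
      Algebra.TensorProduct.tmul_mul_tmul, Algebra.TensorProduct.tmul_mul_tmul,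
      Algebra.TensorProduct.tmul_mul_tmul, AlgebraTensorModule.distribBaseChange_tmul, one_mul]
  | add x y hx hy => simp only [TensorProduct.tmul_add, map_add, mul_add, hx, hy]

theorem antipode_one_tmul (a : Y) : HopfAlgebra.antipodeAlgHom S (S ⊗[R] Y) ((1 : S) ⊗ₜ[R] a) =
    (1 : S) ⊗ₜ[R] HopfAlgebra.antipodeAlgHom R Y a := by
  change HopfAlgebra.antipode S ((1 : S) ⊗ₜ[R] a) = _
  rw [TensorProduct.antipode_def]
  change (AlgebraTensorModule.map (HopfAlgebra.antipode S) (HopfAlgebra.antipode R)) (1 ⊗ₜ a) = _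
  rw [AlgebraTensorModule.map_tmul]
  have : HopfAlgebra.antipode S (1 : S) = 1 := HopfAlgebra.antipode_one
  rw [this]
  rfl

theorem isHI_one_tmul_iff (e : Y) : IsHI S ((1 : S) ⊗ₜ[R] e) ↔
    (1 : S) ⊗ₜ[R] counit (R := R) e = 0 ∧
    (1 : S) ⊗ₜ[R] (((1 - e) ⊗ₜ[R] (1 - e)) * comul (R := R) e) = 0 ∧
    (1 : S) ⊗ₜ[R] ((1 - e) * HopfAlgebra.antipodeAlgHom R Y e) = 0 := by
  have h1 : (1 : S ⊗[R] Y) - (1 : S) ⊗ₜ[R] e = (1 : S) ⊗ₜ[R] (1 - e) := by
    rw [TensorProduct.tmul_sub]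
    rfl
  have h2 : counit (R := S) ((1 : S) ⊗ₜ[R] e) = 0 ↔ (1 : S) ⊗ₜ[R] counit (R := R) e = 0 := by
    rw [counit_one_tmul, ← (TensorProduct.rid R S).map_eq_zero_iff, TensorProduct.rid_tmul,
      Algebra.algebraMap_eq_smul_one]
  have h3 : ((1 - (1 : S) ⊗ₜ[R] e) ⊗ₜ[S] (1 - (1 : S) ⊗ₜ[R] e)) * comul (R := S) ((1 : S) ⊗ₜ[R] e) = 0 ↔
      (1 : S) ⊗ₜ[R] (((1 - e) ⊗ₜ[R] (1 - e)) * comul (R := R) e) = 0 := by
    rw [comul_one_tmul, h1, distrib_mul]
    exact (AlgebraTensorModule.distribBaseChange R S Y Y).map_eq_zero_iff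
  have h4 : (1 - (1 : S) ⊗ₜ[R] e) * HopfAlgebra.antipodeAlgHom S (S ⊗[R] Y) ((1 : S) ⊗ₜ[R] e) =
      (1 : S) ⊗ₜ[R] ((1 - e) * HopfAlgebra.antipodeAlgHom R Y e) := by
    rw [antipode_one_tmul, h1, Algebra.TensorProduct.tmul_mul_tmul, one_mul]
  constructor
  · intro h
    exact ⟨h2.1 h.counit_eq, h3.1 h.comul_eq, h4 ▸ h.antipode_eq⟩
  · rintro ⟨a, b, c⟩
    exact ⟨h2.2 a, h3.2 b, h4.trans c⟩

end bc

end K6.IdemHopf
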