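import Groth.Agent.Sga3A.LiftHens
import Groth.Agent.Sga3A.MTConst
import Groth.Agent.SGA3b.K201.Isotriv
import Groth.Agent.SGA3b.K201.MTBasics

/-!
Lifting of isotrivial groups of multiplicative type along a henselian pair.
-/

set_option autoImplicit false
universe u
open TensorProduct SGA3b

namespace K6.LiftHensRing

/-- isotrivial groups of multiplicative type lift along a henselian pair -/
theorem exists_lift (R : Type u) [CommRing R] (I : Ideal R) [HenselianRing R I]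
    (A₀ : Type u) [CommRing A₀] [HopfAlgebra (R ⧸ I) A₀] (h0 : IsIsotrivial (R ⧸ I) A₀) :
    ∃ (A : Type u) (_ : CommRing A) (_ : HopfAlgebra R A), IsIsotrivial R A ∧
      (Algebra.FiniteType (R ⧸ I) A₀ → Nontrivial (R ⧸ I) → Algebra.FiniteType R A) ∧
      Nonempty (((R ⧸ I) ⊗[R] A) ≃ₐc[R ⧸ I] A₀) := by
  classical
  obtain ⟨R', iR', iA', hE, hfin, hF, M, iM, ⟨e⟩⟩ := h0
  obtain ⟨B, iB, iAB, hBf, hBe, ⟨φ⟩⟩ := Groth.Agent.S0532.result R I R'
  have hflat : Module.Flat R B := inferInstance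
  have hff : Module.FaithfullyFlat R B := by
    refine Groth.Agent.Sga3A.LiftHens.faithfullyFlat_of_le_jacobson I HenselianRing.jac B (R' := R')
      (((φ : (R ⧸ I) ⊗[R] B →ₐ[R ⧸ I] R').toRingHom).comp
        (Algebra.TensorProduct.includeRight : B →ₐ[R] (R ⧸ I) ⊗[R] B).toRingHom) (fun p => ?_)
    change φ ((1 : R ⧸ I) ⊗ₜ[R] algebraMap R B p) = _
    rw [Algebra.algebraMap_eq_smul_one, ← TensorProduct.smul_tmul, ← Algebra.algebraMap_eq_smul_one]
    exact φ.commutes (Ideal.Quotient.mk I p)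
  have hffpi : Module.FaithfullyFlat R (∀ _ : PUnit.{1}, B) :=
    Module.FaithfullyFlat.of_linearEquiv _ B (LinearEquiv.funUnique PUnit.{1} R B)
  have g1 : Groth.Agent.Sga3A.MTBasis.GBasis R' (R' ⊗[R ⧸ I] A₀) M :=
      (Groth.Agent.Sga3A.MTBasis.GBasis.ofBialgEquiv e)
  obtain ⟨A, iA, iH, h1, h2⟩ := Groth.Agent.Sga3A.LiftMain.exists_lift (R := R) (R₀ := R ⧸ I) (A₀ := A₀)
    (S := fun _ : PUnit.{1} => B) (M := fun _ => M) (fun i => g1.bc (φ.symm : R' →ₐ[R ⧸ I] (R ⧸ I) ⊗[R] B))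
    (fun i => Groth.Agent.Sga3A.LiftHens.idemLift_of_henselian R I _)
    (fun i j => Groth.Agent.Sga3A.LiftHens.idemLift_of_henselian R I _)
    (fun i j k => Groth.Agent.Sga3A.LiftHens.idemLift_of_henselian R I _)
  refine ⟨A, iA, iH, ⟨B, iB, iAB, hBe, hBf, hff, M, iM, h1 ⟨⟩⟩, ?_, h2⟩
  intro hft hnt
  have hR' : Nontrivial R' := (FaithfulSMul.algebraMap_injective (R ⧸ I) R').nontrivial
  have hfg : Group.FG M := Groth.Agent.Sga3A.MTConst.fg_of_gbasis g1
  obtain ⟨E⟩ := h1 ⟨⟩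
  have hnR : Nontrivial R := (Ideal.Quotient.mk I).domain_nontrivial
  have hnB : Nontrivial B := (FaithfulSMul.algebraMap_injective R B).nontrivial
  have h3 : Algebra.FiniteType B (MonoidAlgebra B M) := MonoidAlgebra.finiteType_iff_group_fg.mpr hfg
  have h4 : Algebra.FiniteType B (B ⊗[R] A) := Algebra.FiniteType.equiv h3 (E.symm : MonoidAlgebra B M ≃ₐ[B] _)
  exact Algebra.FiniteType.of_finiteType_tensorProduct_of_faithfullyFlat B

/-- isotrivial groups of multiplicative type lift to a henselian local ring -/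
theorem exists_lift_local (R : Type u) [CommRing R] [HenselianLocalRing R]
    (A₀ : Type u) [CommRing A₀] [h : HopfAlgebra (IsLocalRing.ResidueField R) A₀]
    (hft : Algebra.FiniteType (IsLocalRing.ResidueField R) A₀)
    (h0 : IsIsotrivial (IsLocalRing.ResidueField R) A₀) :
    ∃ (A : Type u) (_ : CommRing A) (_ : HopfAlgebra R A), IsIsotrivial R A ∧ Algebra.FiniteType R A ∧
      Nonempty ((IsLocalRing.ResidueField R ⊗[R] A) ≃ₐc[IsLocalRing.ResidueField R] A₀) := by
  have h0' : @IsIsotrivial (R ⧸ IsLocalRing.maximalIdeal R)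
    (Ideal.Quotient.commRing (IsLocalRing.maximalIdeal R)) A₀ _ h := h0
  obtain ⟨A, h1, h2, h3, h4, h5⟩ := @exists_lift R _ (IsLocalRing.maximalIdeal R) inferInstance A₀ _
    h h0'
  exact ⟨A, h1, h2, h3, h4 hft inferInstance, h5⟩

end K6.LiftHensRing
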